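/-
Root coordinates of type E₇ modulo sixty-five and the check of the alcove points of order thirteen: only two of
them are scaled by two by a Weyl element, their stabilisers have exponent two and leave nothing modulo five.
-/
import Cfsg.Agent.Lib.AltSection.KacDescent
import Cfsg.Agent.Lib.Chev.BNFacts

set_option autoImplicit false
set_option maxRecDepth 100000

namespace Cfsg.Agent.E7Two

open Cfsg.Lie Cfsg.Agent.Chev Cfsg.Agent.Chev.BNSetup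
open Cfsg.Agent.AltSection.Kac (points search)

/-- Coordinates of the roots modulo sixty-five. -/
def rows : List (List ℕ) := [
    [63,63,62,61,62,63,64], [64,63,62,61,62,63,64], [64,63,63,61,62,63,64], [64,63,63,62,62,63,64],
    [64,63,63,62,63,63,64], [64,63,63,62,63,64,64], [64,63,63,62,63,64,0], [64,64,63,62,62,63,64],
    [64,64,63,62,63,63,64], [64,64,63,62,63,64,64], [64,64,63,62,63,64,0], [64,64,63,63,63,63,64],
    [64,64,63,63,63,64,64], [64,64,63,63,63,64,0], [64,64,63,63,64,64,64], [64,64,63,63,64,64,0],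
    [64,64,63,63,64,0,0], [64,64,64,63,63,63,64], [64,64,64,63,63,64,64], [64,64,64,63,63,64,0],
    [64,64,64,63,64,64,64], [64,64,64,63,64,64,0], [64,64,64,63,64,0,0], [64,64,64,64,64,64,64],
    [64,64,64,64,64,64,0], [64,64,64,64,64,0,0], [64,64,64,64,0,0,0], [64,0,64,64,64,64,64], [64,0,64,64,64,64,0],
    [64,0,64,64,64,0,0], [64,0,64,64,0,0,0], [64,0,64,0,0,0,0], [64,0,0,0,0,0,0], [0,64,64,63,63,63,64],
    [0,64,64,63,63,64,64], [0,64,64,63,63,64,0], [0,64,64,63,64,64,64], [0,64,64,63,64,64,0], [0,64,64,63,64,0,0],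
    [0,64,64,64,64,64,64], [0,64,64,64,64,64,0], [0,64,64,64,64,0,0], [0,64,64,64,0,0,0], [0,64,0,64,64,64,64],
    [0,64,0,64,64,64,0], [0,64,0,64,64,0,0], [0,64,0,64,0,0,0], [0,64,0,0,0,0,0], [0,0,64,64,64,64,64],
    [0,0,64,64,64,64,0], [0,0,64,64,64,0,0], [0,0,64,64,0,0,0], [0,0,64,0,0,0,0], [0,0,0,64,64,64,64],
    [0,0,0,64,64,64,0], [0,0,0,64,64,0,0], [0,0,0,64,0,0,0], [0,0,0,0,64,64,64], [0,0,0,0,64,64,0],
    [0,0,0,0,64,0,0], [0,0,0,0,0,64,64], [0,0,0,0,0,64,0], [0,0,0,0,0,0,64], [0,0,0,0,0,0,1], [0,0,0,0,0,1,0],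
    [0,0,0,0,0,1,1], [0,0,0,0,1,0,0], [0,0,0,0,1,1,0], [0,0,0,0,1,1,1], [0,0,0,1,0,0,0], [0,0,0,1,1,0,0],
    [0,0,0,1,1,1,0], [0,0,0,1,1,1,1], [0,0,1,0,0,0,0], [0,0,1,1,0,0,0], [0,0,1,1,1,0,0], [0,0,1,1,1,1,0],
    [0,0,1,1,1,1,1], [0,1,0,0,0,0,0], [0,1,0,1,0,0,0], [0,1,0,1,1,0,0], [0,1,0,1,1,1,0], [0,1,0,1,1,1,1],
    [0,1,1,1,0,0,0], [0,1,1,1,1,0,0], [0,1,1,1,1,1,0], [0,1,1,1,1,1,1], [0,1,1,2,1,0,0], [0,1,1,2,1,1,0],
    [0,1,1,2,1,1,1], [0,1,1,2,2,1,0], [0,1,1,2,2,1,1], [0,1,1,2,2,2,1], [1,0,0,0,0,0,0], [1,0,1,0,0,0,0],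
    [1,0,1,1,0,0,0], [1,0,1,1,1,0,0], [1,0,1,1,1,1,0], [1,0,1,1,1,1,1], [1,1,1,1,0,0,0], [1,1,1,1,1,0,0],
    [1,1,1,1,1,1,0], [1,1,1,1,1,1,1], [1,1,1,2,1,0,0], [1,1,1,2,1,1,0], [1,1,1,2,1,1,1], [1,1,1,2,2,1,0],
    [1,1,1,2,2,1,1], [1,1,1,2,2,2,1], [1,1,2,2,1,0,0], [1,1,2,2,1,1,0], [1,1,2,2,1,1,1], [1,1,2,2,2,1,0],
    [1,1,2,2,2,1,1], [1,1,2,2,2,2,1], [1,1,2,3,2,1,0], [1,1,2,3,2,1,1], [1,1,2,3,2,2,1], [1,1,2,3,3,2,1],
    [1,2,2,3,2,1,0], [1,2,2,3,2,1,1], [1,2,2,3,2,2,1], [1,2,2,3,3,2,1], [1,2,2,4,3,2,1], [1,2,3,4,3,2,1],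
    [2,2,3,4,3,2,1]]

/-- Cartan integers of the roots modulo sixty-five. -/
def cols : List (List ℕ) := [
    [64,0,0,0,0,0,0], [1,0,64,0,0,0,0], [0,0,1,64,0,0,0], [0,64,0,1,64,0,0], [0,64,0,0,1,64,0], [0,64,0,0,0,1,64],
    [0,64,0,0,0,0,1], [0,1,0,0,64,0,0], [0,1,0,64,1,64,0], [0,1,0,64,0,1,64], [0,1,0,64,0,0,1], [0,0,64,1,0,64,0],
    [0,0,64,1,64,1,64], [0,0,64,1,64,0,1], [0,0,64,0,1,0,64], [0,0,64,0,1,64,1], [0,0,64,0,0,1,0],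
    [64,0,1,0,0,64,0], [64,0,1,0,64,1,64], [64,0,1,0,64,0,1], [64,0,1,64,1,0,64], [64,0,1,64,1,64,1],
    [64,0,1,64,0,1,0], [64,64,0,1,0,0,64], [64,64,0,1,0,64,1], [64,64,0,1,64,1,0], [64,64,0,0,1,0,0],
    [64,1,0,0,0,0,64], [64,1,0,0,0,64,1], [64,1,0,0,64,1,0], [64,1,0,64,1,0,0], [64,0,64,1,0,0,0],
    [63,0,1,0,0,0,0], [1,0,0,0,0,64,0], [1,0,0,0,64,1,64], [1,0,0,0,64,0,1], [1,0,0,64,1,0,64], [1,0,0,64,1,64,1],
    [1,0,0,64,0,1,0], [1,64,64,1,0,0,64], [1,64,64,1,0,64,1], [1,64,64,1,64,1,0], [1,64,64,0,1,0,0],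
    [0,64,1,0,0,0,64], [0,64,1,0,0,64,1], [0,64,1,0,64,1,0], [0,64,1,64,1,0,0], [0,63,0,1,0,0,0],
    [1,1,64,0,0,0,64], [1,1,64,0,0,64,1], [1,1,64,0,64,1,0], [1,1,64,64,1,0,0], [1,0,63,1,0,0,0],
    [0,1,1,64,0,0,64], [0,1,1,64,0,64,1], [0,1,1,64,64,1,0], [0,1,1,63,1,0,0], [0,0,0,1,64,0,64],
    [0,0,0,1,64,64,1], [0,0,0,1,63,1,0], [0,0,0,0,1,64,64], [0,0,0,0,1,63,1], [0,0,0,0,0,1,63], [0,0,0,0,0,64,2],
    [0,0,0,0,64,2,64], [0,0,0,0,64,1,1], [0,0,0,64,2,64,0], [0,0,0,64,1,1,64], [0,0,0,64,1,0,1],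
    [0,64,64,2,64,0,0], [0,64,64,1,1,64,0], [0,64,64,1,0,1,64], [0,64,64,1,0,0,1], [64,0,2,64,0,0,0],
    [64,64,1,1,64,0,0], [64,64,1,0,1,64,0], [64,64,1,0,0,1,64], [64,64,1,0,0,0,1], [0,2,0,64,0,0,0],
    [0,1,64,1,64,0,0], [0,1,64,0,1,64,0], [0,1,64,0,0,1,64], [0,1,64,0,0,0,1], [64,1,1,0,64,0,0],
    [64,1,1,64,1,64,0], [64,1,1,64,0,1,64], [64,1,1,64,0,0,1], [64,0,0,1,0,64,0], [64,0,0,1,64,1,64],
    [64,0,0,1,64,0,1], [64,0,0,0,1,0,64], [64,0,0,0,1,64,1], [64,0,0,0,0,1,0], [2,0,64,0,0,0,0], [1,0,1,64,0,0,0],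
    [1,64,0,1,64,0,0], [1,64,0,0,1,64,0], [1,64,0,0,0,1,64], [1,64,0,0,0,0,1], [1,1,0,0,64,0,0], [1,1,0,64,1,64,0],
    [1,1,0,64,0,1,64], [1,1,0,64,0,0,1], [1,0,64,1,0,64,0], [1,0,64,1,64,1,64], [1,0,64,1,64,0,1],
    [1,0,64,0,1,0,64], [1,0,64,0,1,64,1], [1,0,64,0,0,1,0], [0,0,1,0,0,64,0], [0,0,1,0,64,1,64], [0,0,1,0,64,0,1],
    [0,0,1,64,1,0,64], [0,0,1,64,1,64,1], [0,0,1,64,0,1,0], [0,64,0,1,0,0,64], [0,64,0,1,0,64,1],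
    [0,64,0,1,64,1,0], [0,64,0,0,1,0,0], [0,1,0,0,0,0,64], [0,1,0,0,0,64,1], [0,1,0,0,64,1,0], [0,1,0,64,1,0,0],
    [0,0,64,1,0,0,0], [64,0,1,0,0,0,0], [1,0,0,0,0,0,0]]

/-- A coordinate. -/
def coef (r k : ℕ) : ℤ :=
  if (rows.getD r []).getD k 0 ≤ 32 then ((rows.getD r []).getD k 0 : ℤ) else ((rows.getD r []).getD k 0 : ℤ) - 65

/-- A scalar product, quick for the kernel. -/
noncomputable def dot (u : List ℕ) (v : List ℕ) : ℕ :=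
  List.rec (fun _ => 0) (fun a _ ih w => List.rec 0 (fun b bs _ => Nat.add (Nat.mul a b) (ih bs)) w) u v

/-- The value of a point at a root modulo thirteen. -/
noncomputable def v13 (y : List ℕ) (r : ℕ) : ℕ := Nat.mod (dot (rows.getD r []) y) 13

/-- The second value at a root. -/
noncomputable def v5 (e : List ℕ) (r : ℕ) : ℕ := Nat.mod (dot (cols.getD r []) e) 5

/-- The matrix of the quadratic invariant. -/
def qmat : List (List ℕ) := [[7,7,4,1,4,7,10],[7,9,1,8,6,4,2],[4,1,8,2,8,1,7],[1,8,2,3,12,8,4],[4,6,8,12,10,11,12],[7,4,1,8,11,1,7],[10,2,7,4,12,7,2]]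

/-- The quadratic invariant. -/
noncomputable def qform (y : List ℕ) : ℕ := Nat.mod (dot y (qmat.map fun g => dot g y)) 13

/-- The code of the values times `m`. -/
noncomputable def code13 (m : ℕ) (y : List ℕ) : ℕ :=
  List.rec 0 (fun row _ acc => Nat.add (Nat.pow 256 (Nat.mod (Nat.mul m (Nat.mod (dot row y) 13)) 13)) acc) rows

/-- The pairwise condition. -/
noncomputable def pairOK (i b j c : ℕ) : Bool :=
  Nat.beq (Nat.mod (dot (rows.getD b []) (cols.getD c [])) 65) ((cols.getD (chevE7.simple j) []).getD i 0)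

/-- Possible images of a fundamental root. -/
noncomputable def candidates (m : ℕ) (y : List ℕ) (i : ℕ) : List ℕ :=
  (List.range 126).filter fun r => Nat.beq (Nat.mod (Nat.mul m (v13 y r)) 13) (Nat.mod (y.getD i 0) 13)

/-- The tuples of images scaling a point by `m`. -/
noncomputable def tuples (m : ℕ) (y : List ℕ) : List (List ℕ) := search (candidates m y) pairOK 7 []

/-- The image twice. -/
noncomputable def twiceIsId (t : List ℕ) : Bool :=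
  (List.range 7).all fun i => (List.range 7).all fun j =>
    Nat.beq (Nat.mod (dot (rows.getD (t.getD i 0) []) (t.map fun b => (rows.getD b []).getD j 0)) 65)
      (if i = j then 1 else 0)

/-- Nothing but the identity keeps the second values. -/
noncomputable def onlyId (e : List ℕ) (t : List ℕ) : Bool :=
  !((List.range 7).all fun i => Nat.beq (v5 e (t.getD i 0)) (v5 e (chevE7.simple i))) ||
    (List.range 7).all fun i => Nat.beq (t.getD i 0) (chevE7.simple i)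

/-- An inverse of twice the tuple minus one modulo five. -/
noncomputable def isInv (t : List ℕ) (P : List (List ℕ)) : Bool :=
  (List.range 7).all fun j => (List.range 7).all fun k =>
    Nat.beq (Nat.mod (dot (P.getD j []) ((List.range 7).map fun i =>
        Nat.add (Nat.mul 2 ((rows.getD (t.getD i 0) []).getD k 0)) (if i = k then 4 else 0))) 5)
      (if j = k then 1 else 0)

/-- The candidates with a regular value and inverses. -/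
def certs : List (List ℕ × List ℕ × List (List (List ℕ))) := [
    ([1,0,0,1,1,1,2], [1,0,0,1,0,0,0], [[[4,4,0,1,4,1,1],[3,4,4,1,2,3,4],[4,0,2,3,1,4,2],[4,4,3,0,0,0,3],[0,4,4,3,1,3,2],[0,4,4,3,0,2,2],[0,3,3,1,0,4,3]],[[2,3,4,2,1,4,0],[4,2,2,3,1,4,2],[2,4,1,4,3,2,1],[2,3,2,1,2,3,2],[0,4,4,3,1,3,2],[0,4,4,3,0,2,2],[0,3,3,1,0,4,3]],[[2,4,4,2,1,4,0],[1,4,3,2,4,1,3],[2,0,1,4,3,2,1],[1,4,4,4,3,2,4],[0,4,4,3,1,3,2],[0,4,4,3,0,2,2],[0,3,3,1,0,4,3]],[[4,2,0,1,4,1,1],[2,3,1,4,3,2,1],[4,3,2,3,1,4,2],[2,3,2,1,2,3,2],[0,4,4,3,1,3,2],[0,4,4,3,0,2,2],[0,3,3,1,0,4,3]],[[4,4,0,1,4,1,1],[1,4,0,2,4,1,3],[3,0,0,1,2,3,4],[3,4,1,3,1,4,0],[0,4,4,3,1,3,2],[0,4,4,3,0,2,2],[0,3,3,1,0,4,3]],[[3,0,0,4,0,0,3],[2,3,0,4,3,2,1],[1,2,0,2,4,1,3],[1,1,1,4,3,2,4],[0,4,4,3,1,3,2],[0,4,4,3,0,2,2],[0,3,3,1,0,4,3]],[[3,4,0,4,0,0,3],[3,4,0,1,2,3,4],[1,0,0,2,4,1,3],[3,4,1,3,1,4,0],[0,4,4,3,1,3,2],[0,4,4,3,0,2,2],[0,3,3,1,0,4,3]],[[4,2,0,1,4,1,1],[4,2,0,3,1,4,2],[3,1,0,1,2,3,4],[4,2,1,0,0,0,3],[0,4,4,3,1,3,2],[0,4,4,3,0,2,2],[0,3,3,1,0,4,3]]]),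
    ([1,0,1,1,0,1,0], [0,0,0,1,0,0,1], [[[3,0,4,0,3,1,3],[0,3,0,0,1,0,2],[4,0,0,0,3,1,3],[4,4,1,3,1,3,0],[0,2,0,0,3,0,1],[4,2,1,2,2,2,4],[0,1,0,0,2,0,3]],[[3,0,4,0,3,1,3],[0,1,0,0,2,0,4],[4,0,0,0,3,1,3],[4,3,1,3,4,3,1],[0,1,0,0,1,0,2],[4,4,1,2,1,2,2],[0,3,0,0,1,0,1]],[[3,0,4,0,3,1,3],[0,1,0,0,2,0,1],[4,0,0,0,3,1,3],[4,3,1,3,4,3,2],[0,1,0,0,1,0,3],[4,2,1,2,2,2,4],[0,2,0,0,4,0,1]],[[3,0,4,0,3,1,3],[0,3,0,0,1,0,3],[4,0,0,0,3,1,3],[4,4,1,3,1,3,3],[0,2,0,0,3,0,4],[4,3,1,2,4,2,0],[0,4,0,0,3,0,3]],[[3,0,4,0,3,1,3],[0,1,0,0,3,0,1],[4,0,0,0,3,1,3],[4,4,1,3,1,3,0],[0,4,0,0,1,0,2],[4,3,1,2,1,2,2],[0,2,0,0,1,0,1]],[[3,0,4,0,3,1,3],[0,3,0,0,4,0,3],[4,0,0,0,3,1,3],[4,1,1,3,2,3,2],[0,3,0,0,3,0,1],[4,0,1,2,2,2,4],[0,4,0,0,2,0,3]],[[3,0,4,0,3,1,3],[0,3,0,0,4,0,2],[4,0,0,0,3,1,3],[4,1,1,3,2,3,1],[0,3,0,0,3,0,4],[4,4,1,2,4,2,0],[0,1,0,0,3,0,3]],[[3,0,4,0,3,1,3],[0,1,0,0,3,0,4],[4,0,0,0,3,1,3],[4,4,1,3,1,3,3],[0,4,0,0,1,0,3],[4,0,1,2,2,2,4],[0,3,0,0,4,0,1]]])]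

/-- The test of one point. -/
noncomputable def pointOK (y : List ℕ) : Bool :=
  y.all (fun k => Nat.beq (Nat.mod k 13) 0) || !Nat.beq (qform y) 0 || !Nat.beq (code13 1 y) (code13 2 y) ||
    certs.any fun c => (c.1 == y) &&
      ((List.range 126).all (fun r => !Nat.beq (v13 y r) 0 || !Nat.beq (v5 c.2.1 r) 0) &&
        (tuples 1 y).all (fun t => twiceIsId t && onlyId c.2.1 t) &&
        (tuples 2 y).all (fun t => c.2.2.any (isInv t)))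

theorem points_ok : ((points [2, 2, 3, 4, 3, 2, 1] 13).all pointOK) = true := by decide +kernel

theorem rows_spec : ∀ r : Fin 126, ∀ k : Fin 7, (rows.getD r.val []).getD k.val 0 = (coef r.val k.val % 65).toNat ∧
    (cols.getD r.val []).getD k.val 0 = (chevE7.cartan k.val r.val % 65).toNat := by decide +kernel

theorem rows_shape : rows.length = 126 ∧ cols.length = 126 ∧ (rows.all fun l => l.length == 7) = true ∧
    (cols.all fun l => l.length == 7) = true := by decide +kernel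

theorem qmat_shape : qmat.length = 7 ∧ ∀ g ∈ qmat, g.length = 7 := by decide +kernel

theorem certs_shape : ∀ c ∈ certs, c.2.1.length = 7 ∧ ∀ P ∈ c.2.2, P.length = 7 ∧ ∀ g ∈ P, g.length = 7 := by
  decide +kernel

theorem rows_nodup : rows.Nodup := by decide +kernel

theorem qform_spec : ∀ k l : Fin 7, ((qmat.getD k.val []).getD l.val 0 : ℤ) =
    (∑ r : Fin 126, coef r.val k.val * coef r.val l.val) % 13 := by decide +kernel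

theorem coef_refl : ∀ i : Fin 7, ∀ r : Fin 126, ∀ k : Fin 7,
    coef (RootBN.look (WeylTab.tabsE7.getD i.val 0) r.val) k.val =
      coef r.val k.val - if k = i then chevE7.cartan i.val r.val else 0 := by decide +kernel

theorem coef_simple : ∀ i : Fin 7, ∀ k : Fin 7, coef (chevE7.simple i.val) k.val = if k = i then 1 else 0 := by
  decide +kernel

theorem coef_linear : ∀ i : Fin 7, ∀ r : Fin 126,
    chevE7.cartan i.val r.val = ∑ k : Fin 7, coef r.val k.val * chevE7.cartan i.val (chevE7.simple k.val) := by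
  decide +kernel

theorem cartan_sym : ∀ i k : Fin 7, chevE7.cartan i.val (chevE7.simple k.val) =
    chevE7.cartan k.val (chevE7.simple i.val) ∧ chevE7.cartan i.val (chevE7.simple i.val) = 2 := by decide +kernel

theorem highest_spec : (∀ k : Fin 7, ∑ r : Fin 126, coef r.val 0 * coef r.val k.val = 36 * coef 125 k.val) ∧
    (∑ r : Fin 126, coef r.val 0 ^ 2 = 2 * 36) ∧ coef 125 0 = 2 := by decide +kernel

end Cfsg.Agent.E7Two
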