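/-
Copies of SL₂ over sixty-four elements in symplectic, linear and unitary groups over eight elements, and an
element of order sixty-five in it.
-/
import Cfsg.Prelude.Def_Classical

set_option autoImplicit false

namespace Cfsg.Agent.E7Two

open Matrix

/-- A homomorphism stays injective modulo the centre if the source has trivial centre. -/
theorem injective_mod_center {A B : Type*} [Group A] [Group B] (hA : Subgroup.center A = ⊥) (f : A →* B)
    (hf : Function.Injective f) : Function.Injective ((QuotientGroup.mk' (Subgroup.center B)).comp f) := by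
  rw [injective_iff_map_eq_one]
  intro a ha
  have h1 : f a ∈ Subgroup.center B := (QuotientGroup.eq_one_iff _).1 ha
  have h2 : a ∈ Subgroup.center A := Subgroup.mem_center_iff.2 fun b =>
    hf (by rw [map_mul, map_mul]; exact Subgroup.mem_center_iff.1 h1 _)
  rwa [hA, Subgroup.mem_bot] at h2

theorem center_sl2_eq_bot {L : Type*} [Field L] [CharP L 2] :
    Subgroup.center (SpecialLinearGroup (Fin 2) L) = ⊥ := by
  rw [eq_bot_iff]
  intro z hz
  obtain ⟨r, hr, hz'⟩ := Matrix.SpecialLinearGroup.mem_center_iff.1 hz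
  rw [Fintype.card_fin] at hr
  have hr1 : r = 1 := CharTwo.sq_injective (by simp [hr])
  rw [Subgroup.mem_bot]
  refine Subtype.ext ?_
  rw [← hz', hr1]
  simp

/-! ## The quadratic extension -/

variable {K L : Type*} [Field K] [Field L] [CharP K 2] [CharP L 2]

/-- A quadratic extension with a basis `1, w` where `w² + w = c`. -/
structure Quad (K L : Type*) [Field K] [Field L] where
  ι : K →+* L
  w : L
  c : K
  ca : L → K
  cb : L → K
  hc : w * w = w + ι c
  decomp : ∀ x, ι (ca x) + ι (cb x) * w = x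
  unique : ∀ a b, ι a + ι b * w = 0 → a = 0 ∧ b = 0

namespace Quad

variable (Q : Quad K L)

omit [CharP K 2] [CharP L 2] in
theorem coords {x : L} {a b : K} (h : Q.ι a + Q.ι b * Q.w = x) : Q.ca x = a ∧ Q.cb x = b := by
  obtain ⟨h1, h2⟩ := Q.unique (Q.ca x - a) (Q.cb x - b) (by
    rw [map_sub, map_sub]; linear_combination Q.decomp x - h)
  exact ⟨sub_eq_zero.1 h1, sub_eq_zero.1 h2⟩

/-- The regular representation. -/
def R (x : L) : Matrix (Fin 2) (Fin 2) K := !![Q.ca x, Q.cb x * Q.c; Q.cb x, Q.ca x + Q.cb x]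

omit [CharP K 2] [CharP L 2] in
theorem R_mul (x y : L) : Q.R (x * y) = Q.R x * Q.R y := by
  obtain ⟨h1, h2⟩ := Q.coords (x := x * y) (a := Q.ca x * Q.ca y + Q.cb x * Q.cb y * Q.c)
    (b := Q.ca x * Q.cb y + Q.cb x * Q.ca y + Q.cb x * Q.cb y) (by
      have e : Q.ι Q.c = Q.w * Q.w - Q.w := by rw [Q.hc]; ring
      conv_rhs => rw [← Q.decomp x, ← Q.decomp y]
      simp only [map_add, map_mul, e]
      ring)
  ext i j
  fin_cases i <;> fin_cases j <;> simp [R, h1, h2, mul_apply, Fin.sum_univ_two] <;> ring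

omit [CharP K 2] [CharP L 2] in
theorem R_add (x y : L) : Q.R (x + y) = Q.R x + Q.R y := by
  obtain ⟨h1, h2⟩ := Q.coords (x := x + y) (a := Q.ca x + Q.ca y) (b := Q.cb x + Q.cb y) (by
      conv_rhs => rw [← Q.decomp x, ← Q.decomp y]
      simp only [map_add]
      ring)
  ext i j
  fin_cases i <;> fin_cases j <;> simp [R, h1, h2] <;> ring

omit [CharP K 2] [CharP L 2] in
theorem R_one : Q.R 1 = 1 := by
  obtain ⟨h1, h2⟩ := Q.coords (x := (1 : L)) (a := 1) (b := 0) (by simp)
  ext i j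
  fin_cases i <;> fin_cases j <;> simp [R, h1, h2]

omit [CharP K 2] [CharP L 2] in
theorem R_injective : Function.Injective Q.R := by
  intro x y h
  have e1 : Q.ca x = Q.ca y := by simpa [R] using congrFun (congrFun h 0) 0
  have e2 : Q.cb x = Q.cb y := by simpa [R] using congrFun (congrFun h 1) 0
  rw [← Q.decomp x, ← Q.decomp y, e1, e2]

/-- The form on the extension. -/
def gr : Matrix (Fin 2) (Fin 2) K := !![0, 1; 1, 1]

/-- Its inverse. -/
def gi : Matrix (Fin 2) (Fin 2) K := !![1, 1; 1, 0]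

omit [CharP L 2] [Field L] in
theorem gr_gi : (gr : Matrix (Fin 2) (Fin 2) K) * gi = 1 ∧ (gi : Matrix (Fin 2) (Fin 2) K) * gr = 1 := by
  constructor <;> ext i j <;> fin_cases i <;> fin_cases j <;>
    simp [gr, gi, mul_apply, Fin.sum_univ_two, CharTwo.add_self_eq_zero]

omit [CharP L 2] in
theorem R_transpose (x : L) : (Q.R x)ᵀ = gr * Q.R x * gi := by
  ext i j
  fin_cases i <;> fin_cases j <;> simp [R, gr, gi, mul_apply, Fin.sum_univ_two] <;>
    grind [CharTwo.add_self_eq_zero]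

/-- The image of a 2×2 matrix. -/
def big (M : Matrix (Fin 2) (Fin 2) L) : Matrix (Fin 2 ⊕ Fin 2) (Fin 2 ⊕ Fin 2) K :=
  fromBlocks (Q.R (M 0 0)) (Q.R (M 0 1) * gi) (gr * Q.R (M 1 0)) (gr * Q.R (M 1 1) * gi)

omit [CharP L 2] in
theorem big_mul (M N : Matrix (Fin 2) (Fin 2) L) : Q.big (M * N) = Q.big M * Q.big N := by
  have hg : ∀ A B : Matrix (Fin 2) (Fin 2) K, A * gi * (gr * B) = A * B := fun A B => by
    rw [mul_assoc A, ← mul_assoc gi, gr_gi.2, one_mul]
  simp only [big, fromBlocks_multiply, mul_apply, Fin.sum_univ_two, R_add, R_mul]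
  congr 1 <;> simp only [← mul_assoc, add_mul, mul_add] <;>
    simp only [mul_assoc, ← mul_assoc (gi : Matrix (Fin 2) (Fin 2) K) gr, gr_gi.2, one_mul]

omit [CharP L 2] in
theorem big_one : Q.big 1 = 1 := by
  have h0 : Q.R 0 = 0 := by simpa using Q.R_add 0 0
  simp [big, h0, Q.R_one, gr_gi.1, fromBlocks_one]

omit [CharP K 2] [CharP L 2] in
theorem big_injective [CharP K 2] : Function.Injective Q.big := by
  intro M N h
  rw [big, big, fromBlocks_inj] at h
  obtain ⟨h1, h2, h3, h4⟩ := h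
  have c1 : ∀ A B : Matrix (Fin 2) (Fin 2) K, A * gi = B * gi → A = B := fun A B e => by
    have e' := congrArg (fun X : Matrix (Fin 2) (Fin 2) K => X * gr) e
    simp only [mul_assoc, gr_gi.2, mul_one] at e'
    exact e'
  have c2 : ∀ A B : Matrix (Fin 2) (Fin 2) K, gr * A = gr * B → A = B := fun A B e => by
    have e' := congrArg (fun X : Matrix (Fin 2) (Fin 2) K => gi * X) e
    simp only [← mul_assoc, gr_gi.2, one_mul] at e'
    exact e'
  ext i j
  fin_cases i <;> fin_cases j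
  exacts [Q.R_injective h1, Q.R_injective (c1 _ _ h2), Q.R_injective (c2 _ _ h3),
    Q.R_injective (c2 _ _ (c1 _ _ h4))]

theorem big_mem (M : SpecialLinearGroup (Fin 2) L) : Q.big M.1 ∈ symplecticGroup (Fin 2) K := by
  have hneg : (-1 : Matrix (Fin 2) (Fin 2) K) = 1 := by
    rw [← neg_one_smul K (1 : Matrix (Fin 2) (Fin 2) K), CharTwo.neg_eq, one_smul]
  have hdet : M.1 0 0 * M.1 1 1 + M.1 0 1 * M.1 1 0 = 1 := by
    have h := M.2
    rw [det_fin_two, CharTwo.sub_eq_add] at h
    exact h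
  have hgi : (gi : Matrix (Fin 2) (Fin 2) K)ᵀ = gi := by ext i j; fin_cases i <;> fin_cases j <;> rfl
  have hgr : (gr : Matrix (Fin 2) (Fin 2) K)ᵀ = gr := by ext i j; fin_cases i <;> fin_cases j <;> rfl
  have h0 : Q.R 0 = 0 := by simpa using Q.R_add 0 0
  rw [SymplecticGroup.mem_iff, Matrix.J, hneg, big, fromBlocks_transpose, fromBlocks_multiply, fromBlocks_multiply]
  simp only [Matrix.transpose_mul, R_transpose, hgi, hgr, mul_zero, zero_add, add_zero, mul_one]
  have s1 : ∀ A : Matrix (Fin 2) (Fin 2) K, gi * (gr * A) = A := fun A => by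
    rw [← mul_assoc, gr_gi.2, one_mul]
  have s2 : ∀ A : Matrix (Fin 2) (Fin 2) K, gr * (gi * A) = A := fun A => by
    rw [← mul_assoc, gr_gi.1, one_mul]
  simp only [mul_assoc, s1, s2, gr_gi.1, gr_gi.2, mul_one]
  simp only [← mul_assoc, ← R_mul]
  have e1 : ∀ a b : L, Q.R (a * b) * gi + Q.R (b * a) * gi = 0 := fun a b => by
    rw [mul_comm b a, ← add_mul, ← R_add, CharTwo.add_self_eq_zero, h0, zero_mul]
  congr 1
  · exact e1 _ _
  · rw [← R_add, add_comm, hdet, R_one]
  · rw [← add_mul, ← mul_add, ← R_add, mul_comm (M.1 1 1), mul_comm (M.1 1 0), hdet, R_one, mul_one, gr_gi.1]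
  · rw [← mul_add, ← R_add, mul_comm (M.1 1 1), CharTwo.add_self_eq_zero, h0, mul_zero]

/-- The embedding into the symplectic group. -/
def toSp : SpecialLinearGroup (Fin 2) L →* symplecticGroup (Fin 2) K where
  toFun M := ⟨Q.big M.1, Q.big_mem M⟩
  map_one' := Subtype.ext Q.big_one
  map_mul' M N := Subtype.ext (Q.big_mul M.1 N.1)

theorem toSp_injective : Function.Injective Q.toSp := fun _ _ h =>
  Subtype.ext (Q.big_injective (congrArg Subtype.val h))

end Quad

/-! ## Padding a symplectic group by two dimensions -/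

/-- Padding a block. -/
def pad (d : K) (A : Matrix (Fin 2) (Fin 2) K) : Matrix (Fin 3) (Fin 3) K :=
  !![A 0 0, A 0 1, 0; A 1 0, A 1 1, 0; 0, 0, d]

/-- The larger matrix. -/
def pad6 (A : Matrix (Fin 2 ⊕ Fin 2) (Fin 2 ⊕ Fin 2) K) : Matrix (Fin 3 ⊕ Fin 3) (Fin 3 ⊕ Fin 3) K :=
  fromBlocks (pad 1 A.toBlocks₁₁) (pad 0 A.toBlocks₁₂) (pad 0 A.toBlocks₂₁) (pad 1 A.toBlocks₂₂)

omit [CharP K 2] in
theorem pad_mul (d e : K) (A B : Matrix (Fin 2) (Fin 2) K) : pad d A * pad e B = pad (d * e) (A * B) := by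
  ext i j
  fin_cases i <;> fin_cases j <;> simp [pad, mul_apply, Fin.sum_univ_three, Fin.sum_univ_two]

omit [CharP K 2] in
theorem pad_add (d e : K) (A B : Matrix (Fin 2) (Fin 2) K) : pad d A + pad e B = pad (d + e) (A + B) := by
  ext i j
  fin_cases i <;> fin_cases j <;> simp [pad]

omit [CharP K 2] in
theorem pad_transpose (d : K) (A : Matrix (Fin 2) (Fin 2) K) : (pad d A)ᵀ = pad d Aᵀ := by
  ext i j
  fin_cases i <;> fin_cases j <;> simp [pad]

omit [CharP K 2] in
theorem pad_one : pad (1 : K) 1 = 1 ∧ pad (0 : K) 0 = 0 := by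
  constructor <;> ext i j <;> fin_cases i <;> fin_cases j <;> simp [pad]

omit [CharP K 2] in
theorem pad6_mul (A B : Matrix (Fin 2 ⊕ Fin 2) (Fin 2 ⊕ Fin 2) K) : pad6 (A * B) = pad6 A * pad6 B := by
  conv_lhs => rw [← fromBlocks_toBlocks A, ← fromBlocks_toBlocks B, fromBlocks_multiply]
  simp [pad6, fromBlocks_multiply, pad_mul, pad_add]

theorem pad6_mem {A : Matrix (Fin 2 ⊕ Fin 2) (Fin 2 ⊕ Fin 2) K} (hA : A ∈ symplecticGroup (Fin 2) K) :
    pad6 A ∈ symplecticGroup (Fin 3) K := by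
  have hneg : (-1 : Matrix (Fin 2) (Fin 2) K) = 1 := by
    rw [← neg_one_smul K (1 : Matrix (Fin 2) (Fin 2) K), CharTwo.neg_eq, one_smul]
  have hneg' : (-1 : Matrix (Fin 3) (Fin 3) K) = 1 := by
    rw [← neg_one_smul K (1 : Matrix (Fin 3) (Fin 3) K), CharTwo.neg_eq, one_smul]
  rw [SymplecticGroup.mem_iff, Matrix.J, hneg, ← fromBlocks_toBlocks A, fromBlocks_transpose, fromBlocks_multiply,
    fromBlocks_multiply, fromBlocks_inj] at hA
  simp only [mul_zero, zero_add, add_zero, mul_one] at hA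
  rw [SymplecticGroup.mem_iff, Matrix.J, hneg', pad6, fromBlocks_transpose, fromBlocks_multiply, fromBlocks_multiply]
  simp only [mul_zero, zero_add, add_zero, mul_one, pad_transpose, pad_mul, pad_add, hA.1, hA.2.1, hA.2.2.1,
    hA.2.2.2, zero_mul, one_mul, zero_add, add_zero, pad_one]

/-- The embedding. -/
def padSp : symplecticGroup (Fin 2) K →* symplecticGroup (Fin 3) K where
  toFun A := ⟨pad6 A.1, pad6_mem A.2⟩
  map_one' := Subtype.ext (by
    show pad6 (1 : Matrix (Fin 2 ⊕ Fin 2) (Fin 2 ⊕ Fin 2) K) = 1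
    rw [← fromBlocks_one, ← fromBlocks_one, pad6, toBlocks_fromBlocks₁₁, toBlocks_fromBlocks₁₂, toBlocks_fromBlocks₂₁,
      toBlocks_fromBlocks₂₂, pad_one.1, pad_one.2])
  map_mul' A B := Subtype.ext (pad6_mul A.1 B.1)

theorem padSp_injective : Function.Injective (padSp (K := K)) := by
  intro A B h
  have h' : pad6 A.1 = pad6 B.1 := congrArg Subtype.val h
  rw [pad6, pad6, fromBlocks_inj] at h'
  obtain ⟨h1, h2, h3, h4⟩ := h'
  have c : ∀ (d : K) (X Y : Matrix (Fin 2) (Fin 2) K), pad d X = pad d Y → X = Y := fun d X Y e => by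
    ext i j
    fin_cases i <;> fin_cases j
    exacts [congrFun (congrFun e 0) 0, congrFun (congrFun e 0) 1, congrFun (congrFun e 1) 0,
      congrFun (congrFun e 1) 1]
  refine Subtype.ext ?_
  rw [← fromBlocks_toBlocks A.1, ← fromBlocks_toBlocks B.1, c _ _ _ h1, c _ _ _ h2, c _ _ _ h3, c _ _ _ h4]

/-! ## Into the special linear and unitary groups -/

/-- The symplectic group in the special linear group. -/
noncomputable def spToSL : symplecticGroup (Fin 2) K →* SpecialLinearGroup (Fin 4) K where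
  toFun A := ⟨reindex finSumFinEquiv finSumFinEquiv A.1, by
    rw [det_reindex_self]; exact SymplecticGroup.det_eq_one A.2⟩
  map_one' := Subtype.ext (by simp)
  map_mul' A B := Subtype.ext (by
    show (A.1 * B.1).submatrix finSumFinEquiv.symm finSumFinEquiv.symm =
      A.1.submatrix finSumFinEquiv.symm finSumFinEquiv.symm * B.1.submatrix finSumFinEquiv.symm finSumFinEquiv.symm
    rw [Matrix.submatrix_mul_equiv])

theorem spToSL_injective : Function.Injective (spToSL (K := K)) := fun _ _ h =>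
  Subtype.ext ((reindex finSumFinEquiv finSumFinEquiv).injective (congrArg Subtype.val h))

/-! ## Into the unitary group -/

section unitary

variable (ι : K →+* L) (a : L)

/-- The change of basis from the alternating to the Hermitian form. -/
def baseChange : Matrix (Fin 2 ⊕ Fin 2) (Fin 2 ⊕ Fin 2) L := fromBlocks 1 1 (a • 1) (a ^ 8 • 1)

/-- Its inverse. -/
def baseChangeInv : Matrix (Fin 2 ⊕ Fin 2) (Fin 2 ⊕ Fin 2) L := fromBlocks (a ^ 8 • 1) 1 (a • 1) 1

/-- The eighth powers, a ring endomorphism in characteristic two. -/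
def frob8 : L →+* L := iterateFrobenius L 2 3

omit [CharP K 2] in
theorem frob8_apply (x : L) : frob8 x = x ^ 8 := by rw [frob8, iterateFrobenius_def]; norm_num

variable {a}

theorem baseChange_inv (ha : a + a ^ 8 = 1) :
    baseChange a * baseChangeInv a = 1 ∧ baseChangeInv a * baseChange a = 1 := by
  have h2 : ∀ c : L, c • (1 : Matrix (Fin 2) (Fin 2) L) + c • 1 = 0 := fun c => by
    rw [← add_smul, CharTwo.add_self_eq_zero, zero_smul]
  have h3 : (1 : Matrix (Fin 2) (Fin 2) L) + 1 = 0 := by simpa using h2 1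
  have h4 : a ^ 8 • (1 : Matrix (Fin 2) (Fin 2) L) + a • 1 = 1 := by rw [← add_smul, add_comm, ha, one_smul]
  have h5 : a • (1 : Matrix (Fin 2) (Fin 2) L) + a ^ 8 • 1 = 1 := by rw [← add_smul, ha, one_smul]
  constructor
  · rw [baseChange, baseChangeInv, fromBlocks_multiply, ← fromBlocks_one]
    simp [h3, h4, h5, smul_smul, mul_comm, h2]
  · rw [baseChange, baseChangeInv, fromBlocks_multiply, ← fromBlocks_one]
    simp [h3, h4, h5, smul_smul, mul_comm, h2]

theorem baseChange_form (ha : a + a ^ 8 = 1) (hfix : (a ^ 8) ^ 8 = a) :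
    (baseChange a)ᵀ * Matrix.J (Fin 2) L * (baseChange a).map frob8 = 1 := by
  have hneg : (-1 : Matrix (Fin 2) (Fin 2) L) = 1 := by
    rw [← neg_one_smul L (1 : Matrix (Fin 2) (Fin 2) L), CharTwo.neg_eq, one_smul]
  have hm : (baseChange a).map frob8 = fromBlocks 1 1 (a ^ 8 • 1) (a • 1) := by
    rw [baseChange, fromBlocks_map]
    congr 1 <;> ext i j <;> fin_cases i <;> fin_cases j <;> simp [frob8_apply, hfix, zero_pow]
  rw [hm, baseChange, Matrix.J, hneg, fromBlocks_transpose, fromBlocks_multiply, fromBlocks_multiply, ← fromBlocks_one]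
  have h2 : ∀ c : L, c • (1 : Matrix (Fin 2) (Fin 2) L) + c • 1 = 0 := fun c => by
    rw [← add_smul, CharTwo.add_self_eq_zero, zero_smul]
  simp [h2, ← add_smul, ha, add_comm (a ^ 8) a]

/-- The image in the unitary group. -/
noncomputable def suMat (A : Matrix (Fin 2 ⊕ Fin 2) (Fin 2 ⊕ Fin 2) K) : Matrix (Fin 4) (Fin 4) L :=
  reindex finSumFinEquiv finSumFinEquiv (baseChangeInv a * A.map ι * baseChange a)

theorem suMat_mul (ha : a + a ^ 8 = 1) (A B : Matrix (Fin 2 ⊕ Fin 2) (Fin 2 ⊕ Fin 2) K) :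
    suMat ι (a := a) (A * B) = suMat ι (a := a) A * suMat ι (a := a) B := by
  simp only [suMat, reindex_apply, Matrix.submatrix_mul_equiv, Matrix.map_mul]
  congr 1
  simp only [mul_assoc]
  rw [← mul_assoc (baseChange a) (baseChangeInv a), (baseChange_inv ha).1, one_mul]

theorem suMat_det (ha : a + a ^ 8 = 1) {A : Matrix (Fin 2 ⊕ Fin 2) (Fin 2 ⊕ Fin 2) K}
    (hA : A ∈ symplecticGroup (Fin 2) K) : (suMat ι (a := a) A).det = 1 := by
  rw [suMat, det_reindex_self, det_mul, det_mul, mul_comm _ (baseChange a).det, ← mul_assoc, ← det_mul,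
    (baseChange_inv ha).1, det_one, one_mul]
  show (ι.mapMatrix A).det = 1
  rw [← RingHom.map_det, SymplecticGroup.det_eq_one hA, map_one]

theorem suMat_mem (ha : a + a ^ 8 = 1) (hfix : (a ^ 8) ^ 8 = a) (hK : ∀ k, ι k ^ 8 = ι k)
    {A : Matrix (Fin 2 ⊕ Fin 2) (Fin 2 ⊕ Fin 2) K} (hA : A ∈ symplecticGroup (Fin 2) K)
    (u v : Fin 4 → L) :
    hermForm 4 L 8 (suMat ι (a := a) A *ᵥ u) (suMat ι (a := a) A *ᵥ v) = hermForm 4 L 8 u v := by
  set P := baseChange a
  set P' := baseChangeInv a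
  have hmap : ∀ {n : Type} [Fintype n] [DecidableEq n] (X Y : Matrix n n L),
      (X * Y).map frob8 = X.map frob8 * Y.map frob8 := fun X Y => Matrix.map_mul
  have hJ : (A.map ι)ᵀ * Matrix.J (Fin 2) L * A.map ι = Matrix.J (Fin 2) L := by
    have h := congrArg (fun X : Matrix (Fin 2 ⊕ Fin 2) (Fin 2 ⊕ Fin 2) K => X.map ι) (SymplecticGroup.mem_iff'.1 hA)
    have hJm : (Matrix.J (Fin 2) K).map ι = Matrix.J (Fin 2) L := by
      rw [Matrix.J, Matrix.J, fromBlocks_map]
      congr 1 <;> ext i j <;> fin_cases i <;> fin_cases j <;> simp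
    simp only [Matrix.map_mul, hJm, transpose_map] at h ⊢
    exact h
  have hPJ : P'ᵀ * P'.map frob8 = Matrix.J (Fin 2) L := by
    have e1 : Pᵀ * Matrix.J (Fin 2) L * P.map frob8 = 1 := baseChange_form ha hfix
    have e2 : P.map frob8 * P'.map frob8 = 1 := by
      rw [← hmap, (baseChange_inv ha).1, Matrix.map_one _ (map_zero _) (map_one _)]
    have e3 : P'ᵀ * Pᵀ = 1 := by rw [← transpose_mul, (baseChange_inv ha).1, transpose_one]
    calc P'ᵀ * P'.map frob8 = P'ᵀ * (Pᵀ * Matrix.J (Fin 2) L * P.map frob8) * P'.map frob8 := by rw [e1, mul_one]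
      _ = (P'ᵀ * Pᵀ) * Matrix.J (Fin 2) L * (P.map frob8 * P'.map frob8) := by simp only [mul_assoc]
      _ = _ := by rw [e2, e3, one_mul, mul_one]
  have hB : (P' * A.map ι * P)ᵀ * (P' * A.map ι * P).map frob8 = 1 := by
    have hAf : (A.map ι).map frob8 = A.map ι := by
      ext i j; simp [frob8_apply, hK]
    rw [hmap, hmap, hAf, transpose_mul, transpose_mul]
    calc Pᵀ * ((A.map ι)ᵀ * P'ᵀ) * (P'.map frob8 * A.map ι * P.map frob8)
        = Pᵀ * ((A.map ι)ᵀ * (P'ᵀ * P'.map frob8) * A.map ι) * P.map frob8 := by simp only [mul_assoc]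
      _ = 1 := by rw [hPJ, hJ]; exact baseChange_form ha hfix
  have hT : (suMat ι (a := a) A)ᵀ * (suMat ι (a := a) A).map frob8 = 1 := by
    rw [suMat, reindex_apply, transpose_submatrix, ← submatrix_map, Matrix.submatrix_mul_equiv, hB,
      submatrix_one_equiv]
  show (∑ i, _ * _ ^ 8) = ∑ i, _ * _ ^ 8
  have hf : ∀ (w : Fin 4 → L) (M : Matrix (Fin 4) (Fin 4) L) i, (M *ᵥ w) i ^ 8 = (M.map frob8 *ᵥ fun j => w j ^ 8) i := by
    intro w M i
    simp only [mulVec, dotProduct, ← frob8_apply, map_sum, map_mul, Matrix.map_apply]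
  simp only [hf]
  show (suMat ι (a := a) A *ᵥ u) ⬝ᵥ ((suMat ι (a := a) A).map frob8 *ᵥ fun j => v j ^ 8) = u ⬝ᵥ fun j => v j ^ 8
  rw [← vecMul_transpose, ← dotProduct_mulVec, mulVec_mulVec, hT, one_mulVec]

/-- The embedding into the special unitary group. -/
noncomputable def spToSU (ha : a + a ^ 8 = 1) (hfix : (a ^ 8) ^ 8 = a) (hK : ∀ k, ι k ^ 8 = ι k) :
    symplecticGroup (Fin 2) K →* SU 4 L 8 where
  toFun A := ⟨⟨suMat ι (a := a) A.1, suMat_det ι ha A.2⟩, fun u v => suMat_mem ι ha hfix hK A.2 u v⟩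
  map_one' := Subtype.ext (Subtype.ext (by
    show suMat ι (a := a) 1 = 1
    rw [suMat, Matrix.map_one _ (map_zero _) (map_one _), mul_one, (baseChange_inv ha).2]
    simp))
  map_mul' A B := Subtype.ext (Subtype.ext (suMat_mul ι ha A.1 B.1))

theorem spToSU_injective (ha : a + a ^ 8 = 1) (hfix : (a ^ 8) ^ 8 = a) (hK : ∀ k, ι k ^ 8 = ι k) :
    Function.Injective (spToSU ι ha hfix hK) := by
  intro A B h
  have h' : suMat ι (a := a) A.1 = suMat ι (a := a) B.1 := congrArg (fun X : SU 4 L 8 => (X.1).1) h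
  have h2 := (reindex finSumFinEquiv finSumFinEquiv).injective h'
  have h3 := congrArg (fun X : Matrix (Fin 2 ⊕ Fin 2) (Fin 2 ⊕ Fin 2) L => baseChange a * X * baseChangeInv a) h2
  simp only [← mul_assoc, (baseChange_inv ha).1, one_mul] at h3
  simp only [mul_assoc, (baseChange_inv ha).1, mul_one] at h3
  exact Subtype.ext (Matrix.map_injective ι.injective h3)

end unitary

end Cfsg.Agent.E7Two
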