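/-
The five groups contain a copy of SL₂ over sixty-four elements, hence an element of order sixty-five.
-/
import Cfsg.Agent.Lib.E7Two.Embed

set_option autoImplicit false

namespace Cfsg.Agent.E7Two

open Matrix

variable {K L : Type*} [Field K] [Fintype K] [Field L] [Fintype L]

theorem charTwo_of_card (h : ∃ n, Fintype.card K = 2 ^ n) : CharP K 2 := by
  obtain ⟨n, hn⟩ := h
  obtain ⟨p, hp⟩ := CharP.exists K
  haveI := hp
  obtain ⟨m, hpp, hm⟩ := FiniteField.card K p
  have h2 : p = 2 := (Nat.prime_dvd_prime_iff_eq hpp Nat.prime_two).1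
    (hpp.dvd_of_dvd_pow (n := n) (hn ▸ hm ▸ dvd_pow_self p m.ne_zero))
  exact h2 ▸ hp

theorem exists_ringHom (hK : Fintype.card K = 8) (hL : Fintype.card L = 64) : Nonempty (K →+* L) := by
  haveI := charTwo_of_card (K := K) ⟨3, hK⟩
  haveI := charTwo_of_card (K := L) ⟨6, hL⟩
  haveI : Fact (Nat.Prime 2) := ⟨Nat.prime_two⟩
  letI : Algebra (ZMod 2) K := ZMod.algebra K 2
  letI : Algebra (ZMod 2) L := ZMod.algebra L 2
  have eK := Module.card_eq_pow_finrank (K := ZMod 2) (V := K)
  have eL := Module.card_eq_pow_finrank (K := ZMod 2) (V := L)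
  rw [hK, ZMod.card, show (8 : ℕ) = 2 ^ 3 from rfl] at eK
  rw [hL, ZMod.card, show (64 : ℕ) = 2 ^ 6 from rfl] at eL
  obtain ⟨f⟩ := FiniteField.nonempty_algHom_of_finrank_dvd (F := ZMod 2) (K := K) (L := L)
    (by rw [← Nat.pow_right_injective le_rfl eK, ← Nat.pow_right_injective le_rfl eL]; norm_num)
  exact ⟨f.toRingHom⟩

/-- The fixed elements of the eighth powers come from the smaller field. -/
theorem exists_preimage (hK : Fintype.card K = 8) (ι : K →+* L) {x : L} (hx : x ^ 8 = x) : ∃ k, ι k = x := by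
  classical
  by_contra h
  push Not at h
  have hfix : ∀ k, ι k ^ 8 = ι k := fun k => by rw [← map_pow, ← hK, FiniteField.pow_card]
  let P : Polynomial L := Polynomial.X ^ 8 - Polynomial.X
  have hdeg : P.natDegree = 8 := FiniteField.X_pow_card_sub_X_natDegree_eq L (by norm_num)
  have hne : P ≠ 0 := FiniteField.X_pow_card_sub_X_ne_zero L (by norm_num)
  have hsub : insert x (Finset.univ.image ι) ⊆ P.roots.toFinset := by
    intro y hy
    rw [Multiset.mem_toFinset, Polynomial.mem_roots hne]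
    simp only [P, Polynomial.IsRoot.def, Polynomial.eval_sub, Polynomial.eval_pow, Polynomial.eval_X, sub_eq_zero]
    rcases Finset.mem_insert.1 hy with rfl | hy
    · exact hx
    · obtain ⟨k, -, rfl⟩ := Finset.mem_image.1 hy
      exact hfix k
  have h1 := (Finset.card_le_card hsub).trans ((Multiset.toFinset_card_le _).trans (P.card_roots'.trans hdeg.le))
  rw [Finset.card_insert_of_notMem (by simpa using h), Finset.card_image_of_injective _ ι.injective,
    Finset.card_univ, hK] at h1
  omega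

theorem exists_quad (hK : Fintype.card K = 8) (hL : Fintype.card L = 64) :
    ∃ (Q : Quad K L), Q.w + Q.w ^ 8 = 1 ∧ (Q.w ^ 8) ^ 8 = Q.w ∧ ∀ k, Q.ι k ^ 8 = Q.ι k := by
  classical
  haveI := charTwo_of_card (K := L) ⟨6, hL⟩
  haveI := charTwo_of_card (K := K) ⟨3, hK⟩
  haveI : Fact (Nat.Prime 2) := ⟨Nat.prime_two⟩
  obtain ⟨ι⟩ := exists_ringHom hK hL
  have hfix : ∀ k, ι k ^ 8 = ι k := fun k => by rw [← map_pow, ← hK, FiniteField.pow_card]
  have h64 : ∀ x : L, (x ^ 8) ^ 8 = x := fun x => by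
    rw [← pow_mul, show 8 * 8 = Fintype.card L by rw [hL], FiniteField.pow_card]
  have hadd : ∀ x y : L, (x + y) ^ 8 = x ^ 8 + y ^ 8 := fun x y => by
    simpa using add_pow_char_pow (p := 2) (n := 3) x y
  -- an element outside the smaller field
  obtain ⟨y, hy⟩ : ∃ y : L, y + y ^ 8 ≠ 0 := by
    by_contra h
    push Not at h
    have h1 : ∀ x : L, ∃ k, ι k = x := fun x => exists_preimage hK ι (by
      have := h x
      rw [CharTwo.add_eq_zero] at this
      exact this.symm)
    have := Fintype.card_le_of_surjective ι h1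
    omega
  set t := y + y ^ 8 with ht
  have ht8 : t ^ 8 = t := by rw [ht, hadd, h64, add_comm]
  set w := y * t⁻¹ with hw
  have hw1 : w + w ^ 8 = 1 := by
    rw [hw, mul_pow, inv_pow, ht8, ← add_mul, ← ht, mul_inv_cancel₀ hy]
  have hw8 : w ^ 8 = w + 1 := by
    calc w ^ 8 = w + (w + w ^ 8) := by rw [← add_assoc, CharTwo.add_self_eq_zero, zero_add]
      _ = w + 1 := by rw [hw1]
  obtain ⟨c, hc⟩ := exists_preimage hK ι (x := w * w + w) (by
    rw [hadd, mul_pow, hw8]
    linear_combination (CharTwo.two_eq_zero (R := L)) * (w + 1))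
  have hca : ∀ x : L, ∃ a b, ι a + ι b * w = x := by
    intro x
    obtain ⟨b, hb⟩ := exists_preimage hK ι (x := x + x ^ 8) (by rw [hadd, h64, add_comm])
    obtain ⟨a, ha⟩ := exists_preimage hK ι (x := x + (x + x ^ 8) * w) (by
      rw [hadd, mul_pow, hadd, h64, hw8]
      linear_combination (CharTwo.two_eq_zero (R := L)) * x ^ 8)
    refine ⟨a, b, ?_⟩
    rw [ha, hb, add_assoc, CharTwo.add_self_eq_zero, add_zero]
  choose ca cb hd using hca
  refine ⟨{ ι := ι, w := w, c := c, ca := ca, cb := cb, hc := ?_, decomp := hd, unique := ?_ }, hw1, h64 _, hfix⟩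
  · rw [hc, add_comm w, add_assoc, CharTwo.add_self_eq_zero, add_zero]
  · intro a b hab
    have e : (ι a + ι b * w) ^ 8 = 0 := by rw [hab]; norm_num
    rw [hadd, mul_pow, hfix, hfix, hw8] at e
    have hb : ι b = 0 := by linear_combination e - hab
    have ha : ι a = 0 := by linear_combination hab - w * hb
    exact ⟨(map_eq_zero ι).1 ha, (map_eq_zero ι).1 hb⟩

/-- An element of order sixty-five. -/
theorem exists_sixtyfive (hL : Fintype.card L = 64) : ∃ M : SpecialLinearGroup (Fin 2) L, orderOf M = 65 := by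
  classical
  haveI := charTwo_of_card (K := L) ⟨6, hL⟩
  haveI : Fact (Nat.Prime 2) := ⟨Nat.prime_two⟩
  letI : Algebra (ZMod 2) L := ZMod.algebra L 2
  let E := FiniteField.Extension L 2 2
  haveI : Fintype E := Fintype.ofFinite E
  have hE : Fintype.card E = 4096 := by
    rw [← Nat.card_eq_fintype_card, FiniteField.natCard_extension, Nat.card_eq_fintype_card, hL]; norm_num
  haveI : CharP E 2 := charP_of_injective_algebraMap (algebraMap L E).injective 2
  obtain ⟨g, hg⟩ := IsCyclic.exists_ofOrder_eq_natCard (α := Eˣ)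
  rw [Nat.card_eq_fintype_card, Fintype.card_units, hE] at hg
  set ζ : E := ((g ^ 63 : Eˣ) : E) with hζ
  have hord : orderOf ζ = 65 := by
    rw [hζ, orderOf_units, orderOf_pow' _ (by norm_num), hg]
    norm_num
  have hζ0 : ζ ≠ 0 := Units.ne_zero _
  have h65 : ζ ^ 65 = 1 := hord ▸ pow_orderOf_eq_one ζ
  have hinv : ζ⁻¹ = ζ ^ 64 := inv_eq_of_mul_eq_one_right (by rw [← pow_succ', h65])
  -- the trace lies in the smaller field
  obtain ⟨t, ht⟩ : ∃ t : L, algebraMap L E t = ζ + ζ⁻¹ := by
    have h64 : (ζ + ζ⁻¹) ^ 64 = ζ + ζ⁻¹ := by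
      have := add_pow_char_pow (p := 2) (n := 6) ζ ζ⁻¹
      norm_num at this
      rw [this, ← hinv, inv_inv, add_comm]
    by_contra h
    push Not at h
    let P : Polynomial E := Polynomial.X ^ 64 - Polynomial.X
    have hdeg : P.natDegree = 64 := FiniteField.X_pow_card_sub_X_natDegree_eq E (by norm_num)
    have hne : P ≠ 0 := FiniteField.X_pow_card_sub_X_ne_zero E (by norm_num)
    have hsub : insert (ζ + ζ⁻¹) (Finset.univ.image (algebraMap L E)) ⊆ P.roots.toFinset := by
      intro y hy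
      rw [Multiset.mem_toFinset, Polynomial.mem_roots hne]
      simp only [P, Polynomial.IsRoot.def, Polynomial.eval_sub, Polynomial.eval_pow, Polynomial.eval_X, sub_eq_zero]
      rcases Finset.mem_insert.1 hy with rfl | hy
      · exact h64
      · obtain ⟨k, -, rfl⟩ := Finset.mem_image.1 hy
        rw [← map_pow, ← hL, FiniteField.pow_card]
    have h1 := (Finset.card_le_card hsub).trans ((Multiset.toFinset_card_le _).trans (P.card_roots'.trans hdeg.le))
    rw [Finset.card_insert_of_notMem (by simpa using h),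
      Finset.card_image_of_injective _ (algebraMap L E).injective, Finset.card_univ, hL] at h1
    omega
  let M : SpecialLinearGroup (Fin 2) L :=
    ⟨!![0, 1; 1, t], by rw [det_fin_two_of]; simp [CharTwo.sub_eq_add]⟩
  set A : Matrix (Fin 2) (Fin 2) E := (algebraMap L E).mapMatrix M.1 with hA
  have eig : ∀ z : E, z * z⁻¹ = 1 → z + z⁻¹ = algebraMap L E t → ∀ k : ℕ, A ^ k *ᵥ ![1, z] = z ^ k • ![1, z] := by
    intro z hz hzt k
    have h1 : A *ᵥ ![1, z] = z • ![1, z] := by
      ext i
      fin_cases i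
      · simp [hA, M, mulVec, dotProduct, Fin.sum_univ_two]
      · simp [hA, M, mulVec, dotProduct, Fin.sum_univ_two, ← hzt]
        linear_combination hz + (CharTwo.two_eq_zero (R := E))
    induction k with
    | zero => simp
    | succ k ih => rw [pow_succ, ← mulVec_mulVec, h1, mulVec_smul, ih, smul_smul, pow_succ']
  have e1 := eig ζ (mul_inv_cancel₀ hζ0) ht.symm
  have e2 := eig ζ⁻¹ (mul_inv_cancel₀ (inv_ne_zero hζ0)) (by rw [inv_inv, add_comm, ht])
  refine ⟨M, ?_⟩
  have hM : M ^ 65 = 1 := by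
    refine Subtype.ext ?_
    refine Matrix.map_injective (algebraMap L E).injective ?_
    show (algebraMap L E).mapMatrix ((M ^ 65).1) = (algebraMap L E).mapMatrix (1 : Matrix (Fin 2) (Fin 2) L)
    rw [Matrix.SpecialLinearGroup.coe_pow, map_pow, ← hA, map_one]
    have hne : ζ ≠ ζ⁻¹ := by
      intro h
      have h2 : ζ ^ 2 = 1 := by rw [sq]; nth_rw 2 [h]; exact mul_inv_cancel₀ hζ0
      have := orderOf_dvd_of_pow_eq_one h2
      rw [hord] at this
      norm_num at this
    have r1 : A ^ 65 *ᵥ ![1, ζ] = ![1, ζ] := by rw [e1, h65, one_smul]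
    have r2 : A ^ 65 *ᵥ ![1, ζ⁻¹] = ![1, ζ⁻¹] := by rw [e2, inv_pow, h65, inv_one, one_smul]
    generalize A ^ 65 = B at r1 r2
    ext i j
    have q1 := congrFun r1 i
    have q2 := congrFun r2 i
    simp only [mulVec, dotProduct, Fin.sum_univ_two] at q1 q2
    have hd : ζ - ζ⁻¹ ≠ 0 := sub_ne_zero.2 hne
    fin_cases i <;> fin_cases j <;> simp at q1 q2 ⊢
    · refine mul_left_cancel₀ hd ?_
      linear_combination ζ * q2 - ζ⁻¹ * q1
    · exact (mul_eq_zero.1 (show (ζ - ζ⁻¹) * B 0 1 = 0 by linear_combination q1 - q2)).resolve_left hd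
    · exact (mul_eq_zero.1 (show (ζ - ζ⁻¹) * B 1 0 = 0 by linear_combination ζ * q2 - ζ⁻¹ * q1)).resolve_left hd
    · refine mul_left_cancel₀ hd ?_
      linear_combination q1 - q2
  refine Nat.dvd_antisymm (orderOf_dvd_of_pow_eq_one hM) ?_
  rw [← hord]
  refine orderOf_dvd_of_pow_eq_one ?_
  have h := e1 (orderOf M)
  rw [hA, ← map_pow, ← Matrix.SpecialLinearGroup.coe_pow, pow_orderOf_eq_one,
    Matrix.SpecialLinearGroup.coe_one, map_one, one_mulVec] at h
  simpa using (congrFun h 0).symm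

theorem exists_order_mod_center {A B : Type*} [Group A] [Group B] (hA : Subgroup.center A = ⊥) {a : A} {n : ℕ}
    (ha : orderOf a = n) (f : A →* B) (hf : Function.Injective f) : ∃ x : B ⧸ Subgroup.center B, orderOf x = n :=
  ⟨_, (orderOf_injective _ (injective_mod_center hA f hf) a).trans ha⟩

/-- The five groups. -/
theorem five_groups (hK : Fintype.card K = 8) (hL : Fintype.card L = 64) :
    (∃ x : ProjectiveSpecialLinearGroup (Fin 2) L, orderOf x = 65) ∧ (∃ x : PSp 2 K, orderOf x = 65) ∧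
    (∃ x : ProjectiveSpecialLinearGroup (Fin 4) K, orderOf x = 65) ∧ (∃ x : PSU 4 L 8, orderOf x = 65) ∧
    (∃ x : PSp 3 K, orderOf x = 65) := by
  haveI := charTwo_of_card (K := L) ⟨6, hL⟩
  haveI := charTwo_of_card (K := K) ⟨3, hK⟩
  obtain ⟨Q, hw, hw64, hfix⟩ := exists_quad hK hL
  obtain ⟨M, hM⟩ := exists_sixtyfive hL
  have hc := center_sl2_eq_bot (L := L)
  exact ⟨exists_order_mod_center hc hM (MonoidHom.id _) Function.injective_id, exists_order_mod_center hc hM Q.toSp Q.toSp_injective,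
    exists_order_mod_center hc hM (spToSL.comp Q.toSp) (spToSL_injective.comp Q.toSp_injective),
    exists_order_mod_center hc hM ((spToSU Q.ι hw hw64 hfix).comp Q.toSp) ((spToSU_injective Q.ι hw hw64 hfix).comp Q.toSp_injective),
    exists_order_mod_center hc hM (padSp.comp Q.toSp) (padSp_injective.comp Q.toSp_injective)⟩

end Cfsg.Agent.E7Two
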