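/-
The reflection coordinates of type E₇, and what the check of the alcove points says about Weyl elements.
-/
import Cfsg.Agent.Lib.E7Two.Cert
import Cfsg.Agent.Lib.Chev.CheckE7
import Cfsg.Agent.Lib.Chev.BN

set_option autoImplicit false
set_option maxRecDepth 4000

namespace Cfsg.Agent.E7Two

open Cfsg.Lie Cfsg.Agent.Chev Cfsg.Agent.Chev.BNSetup
open Cfsg.Agent.AltSection
open Cfsg.Agent.AltSection.Kac (points search mem_points mem_search)

/-- The simple root as an index. -/
def simp (i : Fin 7) : Fin 126 := ⟨chevE7.simple i.val, Good.simple_lt E7.good i.2⟩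

/-- The reflection as a permutation. -/
def refl (i : Fin 7) : Equiv.Perm (Fin 126) :=
  Function.Involutive.toPerm (fun r => ⟨chevE7.reflectRoot i.val r.val, Good.reflectRoot_lt E7.good i.2 r.2⟩)
    (fun r => Fin.ext (Good.reflectRoot_reflectRoot E7.good i.2 r.2))

theorem refl_val (i : Fin 7) (r : Fin 126) :
    (refl i r).val = RootBN.look (WeylTab.tabsE7.getD i.val 0) r.val :=
  ((facts_chevE7.2.2.2.2.1 i.val i.2).2.2.2.1 r.val r.2).1

/-- The coordinates. -/
def sys : Kac.Coords 7 126 where
  C r k := coef r.val k.val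
  A i r := chevE7.cartan i.val r.val
  simp := simp
  refl := refl
  coord_refl i r k := by
    rw [refl_val]
    exact coef_refl i r k
  coord_simp i k := coef_simple i k
  linear i r := coef_linear i r

theorem dot_eq : ∀ u v : List ℕ, dot u v = (List.zipWith (· * ·) u v).sum
  | [], v => by simp [dot]
  | _ :: _, [] => by simp [dot]
  | a :: u, b :: v => by
    rw [List.zipWith_cons_cons, List.sum_cons, ← dot_eq u v]
    rfl

theorem dot_ofFn (u v : List ℕ) (hu : u.length = 7) (hv : v.length = 7) :
    dot u v = ∑ k : Fin 7, u.getD k.val 0 * v.getD k.val 0 := by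
  obtain ⟨a0, a1, a2, a3, a4, a5, a6, rfl⟩ : ∃ a0 a1 a2 a3 a4 a5 a6, u = [a0, a1, a2, a3, a4, a5, a6] := by
    match u, hu with
    | [a0, a1, a2, a3, a4, a5, a6], _ => exact ⟨_, _, _, _, _, _, _, rfl⟩
  obtain ⟨b0, b1, b2, b3, b4, b5, b6, rfl⟩ : ∃ b0 b1 b2 b3 b4 b5 b6, v = [b0, b1, b2, b3, b4, b5, b6] := by
    match v, hv with
    | [b0, b1, b2, b3, b4, b5, b6], _ => exact ⟨_, _, _, _, _, _, _, rfl⟩
  rw [dot_eq, Fin.sum_univ_seven]
  simp [List.zipWith]
  ring

theorem row_length (r : Fin 126) : (rows.getD r.val []).length = 7 ∧ (cols.getD r.val []).length = 7 := by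
  obtain ⟨h1, h2, h3, h4⟩ := rows_shape
  rw [List.all_eq_true] at h3 h4
  refine ⟨?_, ?_⟩
  · rw [List.getD_eq_getElem _ _ (show r.val < rows.length by omega)]
    exact beq_iff_eq.1 (h3 _ (List.getElem_mem _))
  · rw [List.getD_eq_getElem _ _ (show r.val < cols.length by omega)]
    exact beq_iff_eq.1 (h4 _ (List.getElem_mem _))

/-- Casting a row's scalar product. -/
theorem dot_cast {m : ℕ} (hm : m ∣ 65) (r : Fin 126) (v : List ℕ) (hv : v.length = 7) :
    ((dot (rows.getD r.val []) v : ℕ) : ZMod m) = ∑ k : Fin 7, (coef r.val k.val : ZMod m) * (v.getD k.val 0 : ZMod m) ∧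
    ((dot (cols.getD r.val []) v : ℕ) : ZMod m) =
      ∑ k : Fin 7, (chevE7.cartan k.val r.val : ZMod m) * (v.getD k.val 0 : ZMod m) := by
  have hc : ∀ z : ℤ, (((z % 65).toNat : ℕ) : ZMod m) = (z : ZMod m) := by
    intro z
    have h1 : (((z % 65).toNat : ℕ) : ℤ) = z % 65 := Int.toNat_of_nonneg (Int.emod_nonneg _ (by norm_num))
    rw [← Int.cast_natCast, h1, ZMod.intCast_eq_intCast_iff]
    exact (Int.mod_modEq z 65).of_dvd (Int.natCast_dvd_natCast.2 hm)
  rw [dot_ofFn _ _ (row_length r).1 hv, dot_ofFn _ _ (row_length r).2 hv]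
  constructor <;> push_cast <;> refine Finset.sum_congr rfl fun k _ => ?_
  · rw [(rows_spec r k).1, hc]
  · rw [(rows_spec r k).2, hc]

theorem coef_injective : Function.Injective fun r : Fin 126 => rows.getD r.val [] := by
  intro r s h
  have h1 := rows_shape.1
  replace h : rows[r.val]'(by omega) = rows[s.val]'(by omega) :=
    (List.getD_eq_getElem rows [] (show r.val < rows.length by omega)).symm.trans
      (h.trans (List.getD_eq_getElem rows [] (show s.val < rows.length by omega)))
  exact Fin.ext (rows_nodup.getElem_inj_iff.1 h)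

/-- What the check says. -/
structure Good13 (y : Fin 7 → ℤ) (e : Fin 7 → ℤ) : Prop where
  regular : ∀ r : Fin 126, (13 : ℤ) ∣ sys.val y r → ¬ (5 : ℤ) ∣ ∑ i, e i * chevE7.cartan i.val r.val
  square : ∀ l, (∀ r, sys.val y (sys.word l r) ≡ sys.val y r [ZMOD (13 : ℕ)]) → sys.word l * sys.word l = 1
  trivial : ∀ l, (∀ r, sys.val y (sys.word l r) ≡ sys.val y r [ZMOD (13 : ℕ)]) →
    (∀ r, ∑ i, e i * chevE7.cartan i.val (sys.word l r).val ≡ ∑ i, e i * chevE7.cartan i.val r.val [ZMOD (5 : ℕ)]) →
    ∀ i, sys.word l (simp i) = simp i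
  kills : ∀ l, (∀ r, 2 * sys.val y (sys.word l r) ≡ sys.val y r [ZMOD (13 : ℕ)]) → ∀ g : Fin 7 → ℤ,
    (∀ r, 2 * sys.val g (sys.word l r) ≡ sys.val g r [ZMOD (5 : ℕ)]) → ∀ k, (5 : ℤ) ∣ g k

theorem v13_cast (y : List ℕ) (hy : y.length = 7) (r : Fin 126) :
    ((v13 y r.val : ℕ) : ZMod 13) = (sys.val (fun k => (y.getD k.val 0 : ℤ)) r : ℤ) := by
  rw [v13]
  show ((dot (rows.getD r.val []) y % 13 : ℕ) : ZMod 13) = _
  rw [ZMod.natCast_mod, (dot_cast (by norm_num) r y hy).1]
  simp [Kac.Coords.val, sys, mul_comm]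

theorem v5_cast (e : List ℕ) (he : e.length = 7) (r : Fin 126) :
    ((v5 e r.val : ℕ) : ZMod 5) = ((∑ i : Fin 7, (e.getD i.val 0 : ℤ) * chevE7.cartan i.val r.val : ℤ) : ZMod 5) := by
  rw [v5]
  show ((dot (cols.getD r.val []) e % 5 : ℕ) : ZMod 5) = _
  rw [ZMod.natCast_mod, (dot_cast (by norm_num) r e he).2]
  simp [mul_comm]

theorem v13_lt (y : List ℕ) (r : ℕ) : v13 y r < 13 := Nat.mod_lt _ (by norm_num)

theorem modEq_of_cast {m : ℕ} {a b : ℤ} (h : (a : ZMod m) = (b : ZMod m)) : a ≡ b [ZMOD m] :=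
  (ZMod.intCast_eq_intCast_iff a b m).1 h

theorem cast_of_modEq {m : ℕ} {a b : ℤ} (h : a ≡ b [ZMOD m]) : (a : ZMod m) = (b : ZMod m) :=
  (ZMod.intCast_eq_intCast_iff a b m).2 h

/-- The images of the fundamental roots of a word scaling a point are among the tuples. -/
theorem mem_tuples (m : ℕ) (y : List ℕ) (hy : y.length = 7) (l : List (Fin 7))
    (hl : ∀ r, (m : ℤ) * sys.val (fun k => (y.getD k.val 0 : ℤ)) (sys.word l r) ≡
      sys.val (fun k => (y.getD k.val 0 : ℤ)) r [ZMOD (13 : ℕ)]) :
    ((List.range 7).map fun i => if h : i < 7 then (sys.word l (simp ⟨i, h⟩)).val else 0) ∈ tuples m y := by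
  refine mem_search (candidates m y) pairOK _ 7 (fun i hi => ?_) (fun i j hij hj => ?_)
  · rw [dif_pos hi, candidates, List.mem_filter, List.mem_range]
    refine ⟨(sys.word l (simp ⟨i, hi⟩)).2, ?_⟩
    rw [Nat.beq_eq]
    show m * v13 y _ % 13 = y.getD i 0 % 13
    refine (ZMod.natCast_eq_natCast_iff' _ _ 13).1 ?_
    rw [Nat.cast_mul, v13_cast y hy]
    have h := cast_of_modEq (hl (simp ⟨i, hi⟩))
    rw [show sys.val (fun k => (y.getD k.val 0 : ℤ)) (simp ⟨i, hi⟩) = (y.getD i 0 : ℤ) from
      sys.val_simp _ ⟨i, hi⟩] at h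
    push_cast at h
    exact h
  · have hi : i < 7 := hij.trans hj
    rw [dif_pos hi, dif_pos hj, pairOK]
    set b := sys.word l (simp ⟨i, hi⟩) with hb
    set c := sys.word l (simp ⟨j, hj⟩) with hc
    show Nat.beq (dot (rows.getD b.val []) (cols.getD c.val []) % 65) ((cols.getD (simp ⟨j, hj⟩).val []).getD i 0) = true
    have hp : sys.pair b c = chevE7.cartan i (simp ⟨j, hj⟩).val := by
      rw [hb, hc, sys.pair_word (fun a b => (cartan_sym a b).1) (fun a => (cartan_sym a a).2)]
      show ∑ k : Fin 7, sys.C (sys.simp ⟨i, hi⟩) k * sys.A k (simp ⟨j, hj⟩) = _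
      simp [sys.coord_simp]
      rfl
    rw [Nat.beq_eq, show (cols.getD (simp ⟨j, hj⟩).val []).getD i 0 =
      (chevE7.cartan i (simp ⟨j, hj⟩).val % 65).toNat from (rows_spec (simp ⟨j, hj⟩) ⟨i, hi⟩).2]
    apply Int.ofNat_inj.1
    rw [Int.toNat_of_nonneg (Int.emod_nonneg _ (by norm_num)), ← hp, Int.natCast_mod]
    show _ ≡ _ [ZMOD ((65 : ℕ) : ℤ)]
    refine modEq_of_cast ?_
    rw [Int.cast_natCast, (dot_cast dvd_rfl b _ (row_length c).2).1, Kac.Coords.pair]
    push_cast
    refine Finset.sum_congr rfl fun k _ => ?_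
    rw [(rows_spec c k).2]
    congr 1
    rw [← Int.cast_natCast, Int.toNat_of_nonneg (Int.emod_nonneg _ (by norm_num))]
    exact cast_of_modEq (Int.mod_modEq _ 65)

theorem three_ne : (3 : ZMod 13) ≠ 0 := by decide

theorem code13_eq (m : ℕ) (y : List ℕ) :
    code13 m y = ∑ r : Fin 126, 256 ^ (m * v13 y r.val % 13) := by
  have key : ∀ L : List (List ℕ), List.rec 0 (fun row _ acc => Nat.add (Nat.pow 256
      (Nat.mod (Nat.mul m (Nat.mod (dot row y) 13)) 13)) acc) L =
      (L.map fun row => 256 ^ (m * (dot row y % 13) % 13)).sum := by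
    intro L
    induction L with
    | nil => rfl
    | cons a L ih => rw [List.map_cons, List.sum_cons, ← ih]; rfl
  rw [code13, key]
  have h1 := rows_shape.1
  conv_lhs => rw [show rows = List.ofFn (fun r : Fin 126 => rows.getD r.val []) from by
    refine List.ext_getElem (by rw [List.length_ofFn, h1]) fun i h h' => ?_
    rw [List.getElem_ofFn, List.getD_eq_getElem _ _ h]]
  rw [List.map_ofFn, List.sum_ofFn]
  rfl

theorem qform_cast (y : List ℕ) (hy : y.length = 7) :
    ((qform y : ℕ) : ZMod 13) = ∑ r : Fin 126, ((v13 y r.val : ℕ) : ZMod 13) ^ 2 := by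
  obtain ⟨hlen, hrow⟩ := qmat_shape
  have hg : ∀ g : List ℕ, g.length = 7 → ((dot g y : ℕ) : ZMod 13) =
      ∑ k : Fin 7, (g.getD k.val 0 : ZMod 13) * (y.getD k.val 0 : ZMod 13) := fun g hg => by
    rw [dot_ofFn g y hg hy]; push_cast; rfl
  rw [qform]
  show ((dot y (qmat.map fun g => dot g y) % 13 : ℕ) : ZMod 13) = _
  rw [ZMod.natCast_mod, dot_ofFn _ _ hy (by rw [List.length_map, hlen])]
  push_cast
  have hv : ∀ r : Fin 126, ((v13 y r.val : ℕ) : ZMod 13) =
      ∑ k : Fin 7, (y.getD k.val 0 : ZMod 13) * (coef r.val k.val : ZMod 13) := fun r => by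
    rw [v13_cast y hy, Kac.Coords.val]
    push_cast
    rfl
  simp only [hv, sq, Finset.sum_mul_sum]
  rw [Finset.sum_comm]
  refine Finset.sum_congr rfl fun k _ => ?_
  rw [Finset.sum_comm, List.getD_eq_getElem (qmat.map fun g => dot g y) 0 (by rw [List.length_map, hlen]; exact k.2),
    List.getElem_map, hg _ (hrow _ (List.getElem_mem _)), Finset.mul_sum]
  refine Finset.sum_congr rfl fun j _ => ?_
  have hs := congrArg (fun z : ℤ => (z : ZMod 13)) (qform_spec k j)
  simp only [Int.cast_natCast] at hs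
  rw [← List.getD_eq_getElem qmat [] (by rw [hlen]; exact k.2), hs,
    show ((((∑ r : Fin 126, coef r.val k.val * coef r.val j.val) % 13 : ℤ)) : ZMod 13) =
      ((∑ r : Fin 126, coef r.val k.val * coef r.val j.val : ℤ) : ZMod 13) from ZMod.intCast_mod _ 13,
    Int.cast_sum, Finset.sum_mul, Finset.mul_sum]
  refine Finset.sum_congr rfl fun r _ => ?_
  push_cast
  ring

set_option maxHeartbeats 1600000 in
/-- A point scaled by two, with a nonzero value, passes the check. -/
theorem exists_good (y : List ℕ) (hy : y.length = 7) (hb : (List.zipWith (· * ·) y [2, 2, 3, 4, 3, 2, 1]).sum ≤ 13)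
    {l : List (Fin 7)}
    (hl : ∀ r, 2 * sys.val (fun k => (y.getD k.val 0 : ℤ)) (sys.word l r) ≡
      sys.val (fun k => (y.getD k.val 0 : ℤ)) r [ZMOD (13 : ℕ)])
    (hne : ∃ k : Fin 7, ¬ (13 : ℤ) ∣ (y.getD k.val 0 : ℤ)) :
    ∃ e : Fin 7 → ℤ, Good13 (fun k => (y.getD k.val 0 : ℤ)) e := by
  set Y : Fin 7 → ℤ := fun k => (y.getD k.val 0 : ℤ) with hY
  have hmem : y ∈ points [2, 2, 3, 4, 3, 2, 1] 13 := mem_points _ y 13 (by decide) hy hb
  have hok := List.all_eq_true.1 points_ok y hmem
  simp only [pointOK, Bool.or_eq_true, Bool.not_eq_true', List.any_eq_true, Bool.and_eq_true, beq_iff_eq,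
    List.all_eq_true, List.mem_range] at hok
  have hrel : ∀ r, ((v13 y (sys.word l r).val : ℕ) : ZMod 13) * 2 = (v13 y r.val : ℕ) := fun r => by
    have h := cast_of_modEq (hl r)
    push_cast at h
    rw [v13_cast y hy, v13_cast y hy, mul_comm]
    exact h
  rcases hok with ((h0 | hq) | hm) | ⟨⟨y', e, invs⟩, hc, rfl, ⟨hreg, hfix⟩, hkill⟩
  · obtain ⟨k, hk⟩ := hne
    refine absurd ?_ hk
    rw [List.getD_eq_getElem _ _ (show k.val < y.length by omega)]
    have := Nat.eq_of_beq_eq_true (h0 _ (List.getElem_mem (show k.val < y.length by omega)))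
    exact_mod_cast Nat.dvd_of_mod_eq_zero this
  · -- the quadratic invariant
    exfalso
    haveI : Fact (Nat.Prime 13) := ⟨by norm_num⟩
    have hz := qform_cast y hy
    have hinv : ∑ r : Fin 126, ((v13 y r.val : ℕ) : ZMod 13) ^ 2 = 4 * ∑ r : Fin 126, ((v13 y r.val : ℕ) : ZMod 13) ^ 2 := by
      conv_lhs => arg 2; ext r; rw [← hrel r]
      rw [Finset.mul_sum]
      exact (Equiv.sum_comp (sys.word l) (fun r : Fin 126 => (((v13 y r.val : ℕ) : ZMod 13) * 2) ^ 2)).trans
        (Finset.sum_congr rfl fun r _ => by ring)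
    have h3 : (3 : ZMod 13) * (qform y : ℕ) = 0 := by linear_combination -hinv + 3 * hz
    have h4 : ((qform y : ℕ) : ZMod 13) = 0 :=
      (mul_eq_zero.1 h3).resolve_left three_ne
    rw [ZMod.natCast_eq_zero_iff] at h4
    have h5 : qform y = 0 := Nat.eq_zero_of_dvd_of_lt h4 (Nat.mod_lt _ (by norm_num))
    simp [h5] at hq
  · exfalso
    have : code13 1 y = code13 2 y := by
      rw [code13_eq, code13_eq, ← Equiv.sum_comp (sys.word l) (fun r : Fin 126 => 256 ^ (2 * v13 y r.val % 13))]
      refine Finset.sum_congr rfl fun r _ => ?_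
      refine congrArg (256 ^ ·) ?_
      rw [one_mul]
      refine (ZMod.natCast_eq_natCast_iff' _ _ 13).1 ?_
      rw [Nat.cast_mul, mul_comm, ← hrel r]
      norm_num
    rw [this, Nat.beq_refl] at hm
    cases hm
  · obtain ⟨he, hP⟩ := certs_shape _ hc
    set E : Fin 7 → ℤ := fun i => (e.getD i.val 0 : ℤ) with hE
    have hfix' : ∀ l : List (Fin 7), (∀ r, sys.val Y (sys.word l r) ≡ sys.val Y r [ZMOD (13 : ℕ)]) →
        twiceIsId ((List.range 7).map fun i => if h : i < 7 then (sys.word l (simp ⟨i, h⟩)).val else 0) = true ∧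
        onlyId e ((List.range 7).map fun i => if h : i < 7 then (sys.word l (simp ⟨i, h⟩)).val else 0) = true :=
      fun l h => hfix _ (mem_tuples 1 y' hy l (fun r => by rw [Nat.cast_one, one_mul]; exact h r))
    have hget : ∀ (l : List (Fin 7)) (i : Fin 7),
        ((List.range 7).map fun i => if h : i < 7 then (sys.word l (simp ⟨i, h⟩)).val else 0).getD i.val 0 =
          (sys.word l (simp i)).val := fun l i => by
      rw [List.getD_eq_getElem _ _ (by simp)]
      simp
    refine ⟨E, ⟨fun r h13 h5 => ?_, fun l h => ?_, fun l h h' i => ?_, fun l h g hg k => ?_⟩⟩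
    · rcases hreg r.val r.2 with h | h
      · have h1 : ((v13 y' r.val : ℕ) : ZMod 13) = 0 := by
          rw [v13_cast y' hy, ← (ZMod.intCast_zmod_eq_zero_iff_dvd _ 13).2 h13]
        rw [ZMod.natCast_eq_zero_iff] at h1
        rw [Nat.eq_zero_of_dvd_of_lt h1 (v13_lt _ _)] at h
        cases h
      · have h1 : ((v5 e r.val : ℕ) : ZMod 5) = 0 := by
          rw [v5_cast e he, (ZMod.intCast_zmod_eq_zero_iff_dvd _ 5).2 h5]
        rw [ZMod.natCast_eq_zero_iff] at h1
        rw [Nat.eq_zero_of_dvd_of_lt h1 (Nat.mod_lt _ (by norm_num))] at h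
        cases h
    · have ht := (hfix' l h).1
      simp only [twiceIsId, List.all_eq_true, List.mem_range] at ht
      set w := sys.word l with hw
      have key : ∀ i : Fin 7, w (w (simp i)) = simp i := by
        intro i
        apply coef_injective
        simp only
        refine List.ext_getElem (by rw [(row_length _).1, (row_length _).1]) fun j hj hj' => ?_
        have hj7 : j < 7 := (row_length _).1 ▸ hj
        rw [← List.getD_eq_getElem _ 0 hj, ← List.getD_eq_getElem _ 0 hj',
          show (rows.getD (w (w (simp i))).val []).getD j 0 = _ from (rows_spec _ ⟨j, hj7⟩).1,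
          show (rows.getD (simp i).val []).getD j 0 = _ from (rows_spec _ ⟨j, hj7⟩).1]
        congr 1
        have h2 := Nat.eq_of_beq_eq_true (ht i.val i.2 j hj7)
        show _ ≡ _ [ZMOD ((65 : ℕ) : ℤ)]
        refine modEq_of_cast ?_
        have h3 := congrArg (fun z : ℕ => (z : ZMod 65)) h2
        rw [show ((Nat.mod _ 65 : ℕ) : ZMod 65) = _ from ZMod.natCast_mod _ 65, hget, (dot_cast dvd_rfl _ _ (by simp)).1] at h3
        rw [show coef (w (w (simp i))).val j = sys.C (w (w (simp i))) ⟨j, hj7⟩ from rfl, hw, sys.coord_word]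
        push_cast
        refine Eq.trans ?_ (h3.trans ?_)
        · refine Finset.sum_congr rfl fun k _ => ?_
          rw [List.getD_eq_getElem _ _ (by simp)]
          simp only [List.getElem_map, List.getElem_range, k.2, dif_pos]
          rw [show (rows.getD _ []).getD j 0 = _ from (rows_spec (sys.word l (simp k)) ⟨j, hj7⟩).1]
          congr 1
          rw [← Int.cast_natCast, Int.toNat_of_nonneg (Int.emod_nonneg _ (by norm_num))]
          exact (cast_of_modEq (Int.mod_modEq _ 65)).symm
        · rw [show coef (simp i).val j = _ from coef_simple i ⟨j, hj7⟩]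
          by_cases hij : i.val = j
          · simp [hij, Fin.ext_iff, eq_comm]
          · rw [if_neg hij, if_neg (fun e' => hij (congrArg Fin.val e').symm)]
            simp
      have hww : sys.word (l ++ l) = w * w := by simp [Kac.Coords.word, hw]
      have h1 : ∀ r, w (w r) = r := fun r => by
        apply coef_injective
        simp only
        refine List.ext_getElem (by rw [(row_length _).1, (row_length _).1]) fun j hj hj' => ?_
        have hj7 : j < 7 := (row_length _).1 ▸ hj
        rw [← List.getD_eq_getElem _ 0 hj, ← List.getD_eq_getElem _ 0 hj',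
          show (rows.getD (w (w r)).val []).getD j 0 = _ from (rows_spec _ ⟨j, hj7⟩).1,
          show (rows.getD r.val []).getD j 0 = _ from (rows_spec _ ⟨j, hj7⟩).1]
        have h2 := sys.coord_word (l ++ l) r ⟨j, hj7⟩
        rw [hww] at h2
        simp only [Equiv.Perm.mul_apply] at h2
        rw [show coef (w (w r)).val j = sys.C (w (w r)) ⟨j, hj7⟩ from rfl, h2]
        congr 2
        simp [show ∀ k, w (w (sys.simp k)) = sys.simp k from key, sys.coord_simp]
        rfl
      exact Equiv.ext h1
    · have ht := (hfix' l h).2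
      simp only [onlyId, Bool.or_eq_true, Bool.not_eq_true', List.all_eq_true, List.mem_range,
        List.all_eq_false] at ht
      rcases ht with ⟨j, hj, hne'⟩ | ht
      · refine absurd ?_ hne'
        rw [hget l ⟨j, hj⟩, Nat.beq_eq]
        show v5 e _ = v5 e (simp ⟨j, hj⟩).val
        have hh : ((v5 e (sys.word l (simp ⟨j, hj⟩)).val : ℕ) : ZMod 5) = (v5 e (simp ⟨j, hj⟩).val : ℕ) := by
          rw [v5_cast e he, v5_cast e he]
          exact cast_of_modEq (h' _)
        rw [ZMod.natCast_eq_natCast_iff'] at hh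
        rwa [Nat.mod_eq_of_lt (show v5 e _ < 5 from Nat.mod_lt _ (by norm_num)),
          Nat.mod_eq_of_lt (show v5 e _ < 5 from Nat.mod_lt _ (by norm_num))] at hh
      · have := Nat.eq_of_beq_eq_true (ht i.val i.2)
        rw [hget] at this
        exact Fin.ext this
    · obtain ⟨P, hPm, hinv⟩ := hkill _ (mem_tuples 2 y' hy l (fun r => by exact_mod_cast h r))
      simp only [isInv, List.all_eq_true, List.mem_range] at hinv
      obtain ⟨hPl, hPg⟩ := hP P hPm
      have hrow : ∀ i : Fin 7, ∑ k' : Fin 7, ((2 * coef (sys.word l (simp i)).val k'.val - if i = k' then 1 else 0 : ℤ) :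
          ZMod 5) * (g k' : ZMod 5) = 0 := by
        intro i
        have h1 := cast_of_modEq (hg (simp i))
        rw [show sys.val g (simp i) = g i from sys.val_simp _ i] at h1
        simp only [sub_mul, Int.cast_sub, Finset.sum_sub_distrib]
        rw [sub_eq_zero]
        refine Eq.trans ?_ (h1.trans ?_)
        · simp [Kac.Coords.val, sys, Finset.mul_sum]
          exact Finset.sum_congr rfl fun x _ => by ring
        · simp
      have hrw : (g k : ZMod 5) = 0 := by
        have hPk : (P.getD k.val []).length = 7 := by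
          rw [List.getD_eq_getElem _ _ (by rw [hPl]; exact k.2)]
          exact hPg _ (List.getElem_mem _)
        calc (g k : ZMod 5) = ∑ k' : Fin 7, (if k = k' then (1 : ZMod 5) else 0) * (g k' : ZMod 5) := by simp
          _ = ∑ k' : Fin 7, (∑ i : Fin 7, ((P.getD k.val []).getD i.val 0 : ZMod 5) *
                ((2 * coef (sys.word l (simp i)).val k'.val - if i = k' then 1 else 0 : ℤ) : ZMod 5)) *
                  (g k' : ZMod 5) := by
            refine Finset.sum_congr rfl fun k' _ => ?_
            congr 1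
            have h2 := congrArg (fun z : ℕ => (z : ZMod 5)) (Nat.eq_of_beq_eq_true (hinv k.val k.2 k'.val k'.2))
            rw [show ((Nat.mod _ 5 : ℕ) : ZMod 5) = _ from ZMod.natCast_mod _ 5,
              dot_ofFn _ _ hPk (by simp)] at h2
            refine Eq.trans ?_ (h2.symm.trans ?_)
            · by_cases hkk : k = k' <;> simp [hkk, Fin.val_inj]
            · push_cast
              refine Finset.sum_congr rfl fun i _ => ?_
              congr 1
              rw [List.getD_eq_getElem _ _ (by simp)]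
              simp only [List.getElem_map, List.getElem_range, hget]
              rw [show (rows.getD _ []).getD k'.val 0 = _ from (rows_spec (sys.word l (simp i)) k').1]
              have hc5 : (((coef (sys.word l (simp i)).val k'.val % 65).toNat : ℕ) : ZMod 5) =
                  (coef (sys.word l (simp i)).val k'.val : ZMod 5) := by
                rw [← Int.cast_natCast, Int.toNat_of_nonneg (Int.emod_nonneg _ (by norm_num))]
                exact cast_of_modEq ((Int.mod_modEq _ 65).of_dvd (by norm_num))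
              simp only [Nat.add_eq, Nat.mul_eq, Nat.cast_add, Nat.cast_mul, hc5, Int.cast_sub, Int.cast_mul]
              by_cases hik : i = k'
              · subst hik
                simp [sub_eq_add_neg]
                decide
              · simp [hik, Fin.val_inj]
          _ = ∑ i : Fin 7, ((P.getD k.val []).getD i.val 0 : ZMod 5) * ∑ k' : Fin 7,
                ((2 * coef (sys.word l (simp i)).val k'.val - if i = k' then 1 else 0 : ℤ) : ZMod 5) * (g k' : ZMod 5) := by
            simp only [Finset.sum_mul, Finset.mul_sum, mul_assoc]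
            exact Finset.sum_comm
          _ = 0 := Finset.sum_eq_zero fun i _ => by rw [hrow i, mul_zero]
      exact (ZMod.intCast_zmod_eq_zero_iff_dvd _ 5).1 hrw

end Cfsg.Agent.E7Two
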