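/-
E₇(2) has no element of order sixty-five: such an element would move into a split torus over the field with 4096
elements and be squared there by a Weyl element, which the check of the alcove points forbids.
-/
import Cfsg.Agent.Lib.E7Two.Roots
import Cfsg.Agent.Lib.AltSection.TorusValues
import Cfsg.Agent.Lib.AltSection.RegularFixed
import Cfsg.Agent.Lib.AltSection.Joint
import Cfsg.Agent.Lib.Chev.Poincare

set_option autoImplicit false

namespace Cfsg.Agent.E7Two

open Cfsg.Lie Cfsg.Agent.Chev Cfsg.Agent.Chev.BNSetup Cfsg.Agent.AltSection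
open Cfsg.Agent.RootBN (Data)

theorem levelsPoly_mod (ℓ : ℕ) {q : ℕ} (hq : (q : ZMod ℓ) = 1) :
    ∀ Ls : List RootBN.Level, ((RootBN.levelsPoly q Ls : ℕ) : ZMod ℓ) = (RootBN.levelsPoly 1 Ls : ℕ)
  | [] => rfl
  | L :: Ls => by
    simp only [RootBN.levelsPoly, Nat.cast_mul, levelsPoly_mod ℓ hq Ls]
    congr 1
    induction L.reps with
    | nil => simp
    | cons d l ih => simp [Nat.cast_pow, hq, ih]

theorem weyl_order : RootBN.levelsPoly 1 WeylTab.levelsE7 = 2903040 := by decide +kernel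

theorem cast_facts : ((2903040 : ℕ) : ZMod 13) ≠ 0 ∧ ((4096 : ℕ) : ZMod 13) = 1 := by decide

theorem word_eq_wl {F : Type*} [Field F] (l : List (Fin 7)) : sys.word l = (data E7.good F).wl l := rfl

theorem combine {F : Type*} [Field F] {ω₁ ω₂ : Fˣ} (h1 : IsPrimitiveRoot ω₁ 13) (h2 : IsPrimitiveRoot ω₂ 5)
    {a b a' b' : ℤ} (h : pw ω₁ a * pw ω₂ b = pw ω₁ a' * pw ω₂ b') :
    a ≡ a' [ZMOD (13 : ℕ)] ∧ b ≡ b' [ZMOD (5 : ℕ)] := by
  have hz : ∀ (ω : Fˣ) (z : ℤ) (n : ℕ), IsPrimitiveRoot ω n → (n : ℤ) ∣ z → pw ω z = 1 := fun ω z n hω hd => by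
    rw [pw, (hω.zpow_eq_one_iff_dvd z).2 hd, Units.val_one]
  have h5 := congrArg (fun x : F => x ^ 5) h
  simp only [mul_pow, pw_pow] at h5
  rw [hz ω₂ _ 5 h2 (dvd_mul_right _ _), hz ω₂ _ 5 h2 (dvd_mul_right _ _), mul_one, mul_one, pw_eq_iff h1] at h5
  have ha : a ≡ a' [ZMOD (13 : ℕ)] := by
    have := h5.mul_left 8
    rw [← mul_assoc, ← mul_assoc] at this
    exact (((show (1 : ℤ) ≡ 8 * ((5 : ℕ) : ℤ) [ZMOD (13 : ℕ)] by decide).mul_right a).trans this).trans
      ((show (8 : ℤ) * ((5 : ℕ) : ℤ) ≡ 1 [ZMOD (13 : ℕ)] by decide).mul_right a') |> fun e => by simpa using e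
  refine ⟨ha, ?_⟩
  rw [(pw_eq_iff h1).2 ha] at h
  exact (pw_eq_iff h2).1 (mul_left_cancel₀ (Units.ne_zero _) h)

variable {E : Type} [Field E] [Fintype E] [CharP E 2]

/-- The centraliser of a good element of order thirteen has a torus of index prime to five. -/
theorem not_dvd_index {v : ↥((data E7.good E).grp)} {y e : Fin 7 → ℤ} (hgood : Good13 y e) {ω₁ ω₂ : Eˣ}
    (h1 : IsPrimitiveRoot ω₁ 13) (h2 : IsPrimitiveRoot ω₂ 5) (hv : (v : GL chevE7.Idx E) ∈ (data E7.good E).H)
    (hval : HasValues E7.good (v : GL chevE7.Idx E) (fun r => pw ω₁ (sys.val y r))) :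
    ¬ 5 ∣ (((data E7.good E).H.subgroupOf (data E7.good E).grp).subgroupOf
      (Subgroup.centralizer ({v} : Set ↥((data E7.good E).grp)))).index := by
  classical
  haveI : Fact (Nat.Prime 5) := ⟨by norm_num⟩
  haveI : Fact (Nat.Prime 2) := ⟨Nat.prime_two⟩
  have ax := axioms (F := E) E7.good facts_chevE7
  set C := Subgroup.centralizer ({v} : Set ↥((data E7.good E).grp)) with hC
  set T := ((data E7.good E).H.subgroupOf (data E7.good E).grp).subgroupOf C with hT
  set N' := ((data E7.good E).N.subgroupOf (data E7.good E).grp).subgroupOf C with hN'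
  have hTN : T ≤ N' := fun g hg => Data.H_le_N hg
  have hnorm : ∀ g ∈ N', ∀ t ∈ T, g⁻¹ * t * g ∈ T := fun g hg t ht => by
    have h := Data.N_conj_H ax ((data E7.good E).N.inv_mem (show (g.1.1 : GL chevE7.Idx E) ∈ _ from hg))
      (show (t.1.1 : GL chevE7.Idx E) ∈ (data E7.good E).H from ht)
    rw [inv_inv] at h
    exact h
  obtain ⟨s, hs, hs5, hsval⟩ := exists_torus_values E7.good facts_chevE7 ω₂ e h2
  have hsG : s ∈ (data E7.good E).grp := ax.H_le hs
  have hsC : (⟨s, hsG⟩ : ↥((data E7.good E).grp)) ∈ C := by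
    rw [hC, Subgroup.mem_centralizer_singleton_iff]
    exact Subtype.ext (H_comm E7.good s hs _ hv)
  have hvs : HasValues E7.good ((v : GL chevE7.Idx E) * s)
      (fun r => pw ω₁ (sys.val y r) * pw ω₂ (∑ i : Fin 7, e i * chevE7.cartan i.val r.val)) := hval.mul hsval
  have hcop := AltSection.coprime_U_H E7.good facts_chevE7 (F := E) 2
  have hfix : ∀ g : C, g⁻¹ * ⟨_, hsC⟩ * g ∈ T → g ∈ N' := by
    intro g hg
    have hgv : (g.1.1 : GL chevE7.Idx E)⁻¹ * v * g.1.1 = v := by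
      have hgm := Subgroup.mem_centralizer_singleton_iff.1 g.2
      have e : (g.1.1 : GL chevE7.Idx E) * v = v * g.1.1 := congrArg Subtype.val hgm
      rw [mul_assoc, ← e, inv_mul_cancel_left]
    obtain ⟨n, hn, hn'⟩ := Data.exists_monomial_conj ax hcop ((data E7.good E).grp.inv_mem g.1.2)
    have hnv : n * (v : GL chevE7.Idx E) * n⁻¹ = v := by
      rw [← hn' _ hv (by rw [inv_inv, hgv]; exact hv), inv_inv, hgv]
    have hns : n * s * n⁻¹ = (g.1.1 : GL chevE7.Idx E)⁻¹ * s * g.1.1 := by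
      have hm : (g.1.1 : GL chevE7.Idx E)⁻¹ * s * g.1.1 ∈ (data E7.good E).H := hg
      rw [← hn' s hs (by rw [inv_inv]; exact hm), inv_inv]
    have hcomm : (g.1.1 * n : GL chevE7.Idx E) * ((v : GL chevE7.Idx E) * s) * (g.1.1 * n)⁻¹ = v * s := by
      calc _ = g.1.1 * (n * (v : GL chevE7.Idx E) * n⁻¹) * (g.1.1 : GL chevE7.Idx E)⁻¹ *
            (g.1.1 * (n * s * n⁻¹) * (g.1.1 : GL chevE7.Idx E)⁻¹) := by group
        _ = g.1.1 * ((g.1.1 : GL chevE7.Idx E)⁻¹ * v * g.1.1) * (g.1.1 : GL chevE7.Idx E)⁻¹ *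
            (g.1.1 * ((g.1.1 : GL chevE7.Idx E)⁻¹ * s * g.1.1) * (g.1.1 : GL chevE7.Idx E)⁻¹) := by rw [hnv, hns, hgv]
        _ = _ := by group
    have hmem := mem_torus_of_commute E7.good facts_chevE7 hcop ((data E7.good E).H.mul_mem hv hs) hvs
      (fun r h0 => by
        obtain ⟨ha, hb⟩ := combine h1 h2 (a' := 0) (b' := 0) (by simpa [pw] using h0)
        exact hgood.regular r (Int.modEq_zero_iff_dvd.1 ha) (Int.modEq_zero_iff_dvd.1 hb))
      (fun σ hσ h0 => by
        obtain ⟨l, rfl⟩ := Data.mem_weyl.1 hσ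
        have hboth := fun r => combine h1 h2 (h0 r)
        have hs' := hgood.trivial l (fun r => (hboth r).1) (fun r => (hboth r).2)
        rw [← Data.wl_nil (D := data E7.good E)]
        exact Data.wl_ext ax hs')
      ((data E7.good E).grp.mul_mem g.1.2 (Data.N_le_grp ax hn)) hcomm
    show (g.1.1 : GL chevE7.Idx E) ∈ (data E7.good E).N
    have := (data E7.good E).N.mul_mem (Data.H_le_N hmem) ((data E7.good E).N.inv_mem hn)
    rwa [mul_inv_cancel_right] at this
  have hmod := index_modEq hTN hnorm (s := (⟨_, hsC⟩ : C)) (show s ∈ (data E7.good E).H from hs)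
    (Subtype.ext (Subtype.ext hs5)) hfix
  -- the quotient has exponent two
  haveI : (T.subgroupOf N').Normal := ⟨fun t ht g => by
    have := hnorm g.1⁻¹ (N'.inv_mem g.2) t.1 ht
    rw [inv_inv] at this
    exact this⟩
  intro h5
  have h5' : 5 ∣ Nat.card (N' ⧸ T.subgroupOf N') := by
    rw [← Subgroup.index_eq_card]
    exact (Nat.ModEq.dvd_iff hmod dvd_rfl).1 h5
  obtain ⟨q, hq⟩ := exists_prime_orderOf_dvd_card' 5 h5'
  have hq2 : q ^ 2 = 1 := by
    induction q using QuotientGroup.induction_on with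
    | _ g =>
      rw [← QuotientGroup.mk_pow, QuotientGroup.eq_one_iff]
      show ((g.1.1.1 : GL chevE7.Idx E)) ^ 2 ∈ (data E7.good E).H
      have hgN : (g.1.1.1 : GL chevE7.Idx E) ∈ (data E7.good E).N := g.2
      obtain ⟨l, ⟨h, hh, hgl⟩, hrel⟩ := monomial_relation facts_chevE7 (hG := E7.good) hgN
      have hgv : (g.1.1.1 : GL chevE7.Idx E) * v * (g.1.1.1 : GL chevE7.Idx E)⁻¹ = (v : GL chevE7.Idx E) ^ 1 := by
        have e : (g.1.1.1 : GL chevE7.Idx E) * v = v * g.1.1.1 :=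
          congrArg Subtype.val (Subgroup.mem_centralizer_singleton_iff.1 g.1.2)
        rw [e, mul_inv_cancel_right, pow_one]
      have hsq := hgood.square l (fun r => by
        have := hrel _ hv 1 _ hval hgv r
        rw [pow_one, pw_eq_iff h1] at this
        exact this)
      refine Data.mem_H_of_pos_preserving ax ((data E7.good E).N.pow_mem hgN 2) (σ := 1) ?_ (fun r hr => by simpa using hr)
      have hh2 : (data E7.good E).wl l * (data E7.good E).wl l = 1 := hsq
      have hacts := (Data.acts_mul_nw ax hh l).mul (Data.acts_mul_nw ax hh l)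
      rw [hh2] at hacts
      rw [sq, hgl]
      exact hacts
  have := orderOf_dvd_of_pow_eq_one hq2
  rw [hq] at this
  norm_num at this

/-- An element of order thirteen of the torus which the Frobenius squares up to conjugacy moves to a good one. -/
theorem exists_good_conj {v : ↥((data E7.good E).grp)} (hv : (v : GL chevE7.Idx E) ∈ (data E7.good E).H)
    (hv13 : v ^ 13 = 1) (hv1 : v ≠ 1) {g : ↥((data E7.good E).grp)} (hg : g * v * g⁻¹ = v ^ 2)
    {ω : Eˣ} (hω : IsPrimitiveRoot ω 13) :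
    ∃ (m : ↥((data E7.good E).grp)) (y e : Fin 7 → ℤ), (m.1 : GL chevE7.Idx E) ∈ (data E7.good E).N ∧
      Good13 y e ∧ HasValues E7.good ((m * v * m⁻¹ : ↥((data E7.good E).grp)) : GL chevE7.Idx E)
        (fun r => pw ω (sys.val y r)) := by
  classical
  haveI : Fact (Nat.Prime 13) := ⟨by norm_num⟩
  haveI : Fact (Nat.Prime 2) := ⟨Nat.prime_two⟩
  have ax := axioms (F := E) E7.good facts_chevE7
  obtain ⟨f, hf, ⟨k, hk⟩, hfv⟩ := exists_values E7.good facts_chevE7 (fun r k => coef r k)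
    (fun r hr j => (coef_linear j ⟨r, hr⟩).symm) hω
    (show (v : GL chevE7.Idx E) ∈ chevE7.diagonalSubgroup E from hv)
    (by simpa using congrArg Subtype.val hv13) (fun h => hv1 (Subtype.ext h))
  set x : Fin 7 → ℤ := fun i => (f i : ℤ) with hx
  have hval : HasValues E7.good (v : GL chevE7.Idx E) (fun r => pw ω (sys.val x r)) := by
    intro r u
    rw [hfv r.val r.2 u]
    congr 2
    rw [← zpow_natCast]
    show pw ω _ = _
    rw [pw_eq_iff hω, expo, Int.toNat_of_nonneg (Int.emod_nonneg _ (by norm_num))]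
    refine (Int.mod_modEq _ _).trans ?_
    exact congrArg (· % _) (Finset.sum_congr rfl fun i _ => mul_comm _ _)
  obtain ⟨l, y, hl, hy0, hyθ⟩ := sys.exists_alcove (Pos := (data E7.good E).Pos) ax.refl_refl ax.refl_pos ax.pos_simp
    (fun i h => by
      have h' : (data E7.good E).Pos ((data E7.good E).refl i ((data E7.good E).simp i)) := h
      erw [ax.refl_simp] at h'
      exact Data.not_pos_opp_simp ax i h')
    (fun i => (cartan_sym i i).2) (θ := 125) (h := fun i => if i = 0 then 1 else 0) (K := 36) (by norm_num)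
    (fun k => by
      have := highest_spec.1 k
      simpa [Kac.Coords.val, sys] using this)
    (by
      have := highest_spec.2.1
      simpa [Kac.Coords.val, sys] using this) (m := 13) (by norm_num) x
  set nl := (data E7.good E).nw l.reverse with hnl
  have hnlG : nl ∈ (data E7.good E).grp := Data.N_le_grp ax (Data.nw_mem_N _)
  have hval' : HasValues E7.good (nl * (v : GL chevE7.Idx E) * nl⁻¹) (fun r => pw ω (sys.val y r)) := by
    have h := hval.nw_conj facts_chevE7 l.reverse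
    intro r u
    refine (h r u).trans ?_
    have e : ((data E7.good E).wl (List.reverse (α := Fin chevE7.rank) l))⁻¹ = (data E7.good E).wl l := by
      erw [Data.wl_reverse ax, inv_inv]
    congr 2
    refine (pw_eq_iff hω).2 ?_
    erw [e]
    exact hl r
  -- squaring by a monomial element
  have hv'H : nl * (v : GL chevE7.Idx E) * nl⁻¹ ∈ (data E7.good E).H := Data.nw_H ax _ hv
  have hg' : (g : GL chevE7.Idx E) * v * (g : GL chevE7.Idx E)⁻¹ = (v : GL chevE7.Idx E) ^ 2 := by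
    simpa using congrArg Subtype.val hg
  have hh : nl * (g : GL chevE7.Idx E) * nl⁻¹ ∈ (data E7.good E).grp :=
    (data E7.good E).grp.mul_mem ((data E7.good E).grp.mul_mem hnlG g.2) ((data E7.good E).grp.inv_mem hnlG)
  have he : nl * (g : GL chevE7.Idx E) * nl⁻¹ * (nl * (v : GL chevE7.Idx E) * nl⁻¹) *
      (nl * (g : GL chevE7.Idx E) * nl⁻¹)⁻¹ = (nl * (v : GL chevE7.Idx E) * nl⁻¹) ^ 2 := by
    rw [conj_pow, ← hg']; group
  obtain ⟨n, hn, hn'⟩ := Data.exists_monomial_conj ax (AltSection.coprime_U_H E7.good facts_chevE7 2) hh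
  obtain ⟨l₁, -, hrel⟩ := monomial_relation facts_chevE7 (hG := E7.good) hn
  have hne : n * (nl * (v : GL chevE7.Idx E) * nl⁻¹) * n⁻¹ = (nl * (v : GL chevE7.Idx E) * nl⁻¹) ^ 2 := by
    rw [← hn' _ hv'H (by rw [he]; exact Subgroup.pow_mem _ hv'H 2), he]
  have h2 : ∀ r, 2 * sys.val y (sys.word l₁ r) ≡ sys.val y r [ZMOD (13 : ℕ)] := fun r => by
    have := hrel _ hv'H 2 _ hval' hne r
    rw [pw_pow, pw_eq_iff hω] at this
    exact this
  set ys := List.ofFn fun i : Fin 7 => (y i).toNat with hys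
  have hget : ∀ i : Fin 7, (ys.getD i.val 0 : ℤ) = y i := fun i => by
    rw [hys, List.getD_eq_getElem _ _ (by simp), List.getElem_ofFn, Int.toNat_of_nonneg (hy0 _)]
  have hY : (fun i : Fin 7 => (ys.getD i.val 0 : ℤ)) = y := funext hget
  obtain ⟨e, hgood⟩ := exists_good ys (by simp [hys]) (by
      have hθ : ∀ k : Fin 7, coef 125 k.val = ([2, 2, 3, 4, 3, 2, 1] : List ℤ).getD k.val 0 := by decide +kernel
      have : (((List.zipWith (fun a b : ℕ => a * b) ys [2, 2, 3, 4, 3, 2, 1]).sum : ℕ) : ℤ) = sys.val y 125 := by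
        simp only [Kac.Coords.val, sys, Fin.sum_univ_seven, ← hget]
        show _ = _ * coef 125 (0 : Fin 7).val + _ * coef 125 (1 : Fin 7).val + _ * coef 125 (2 : Fin 7).val +
          _ * coef 125 (3 : Fin 7).val + _ * coef 125 (4 : Fin 7).val + _ * coef 125 (5 : Fin 7).val +
          _ * coef 125 (6 : Fin 7).val
        simp only [hθ]
        simp [hys, List.ofFn_succ]
        ring
      omega) (l := l₁) (by rw [hY]; exact h2) (by
      by_contra hall
      push Not at hall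
      have hy13 : ∀ r, sys.val y r ≡ 0 [ZMOD (13 : ℕ)] := fun r => by
        refine Int.modEq_zero_iff_dvd.2 (Finset.dvd_sum fun i _ => Dvd.dvd.mul_right ?_ _)
        rw [← hget i]
        exact hall i
      refine hk ?_
      have h0 : sys.val x (simp k) ≡ 0 [ZMOD (13 : ℕ)] := by
        obtain ⟨r, hr⟩ := (sys.word l).surjective (simp k)
        rw [← hr]
        exact (hl r).trans (hy13 r)
      rw [show sys.val x (simp k) = x k from sys.val_simp x k, Int.modEq_zero_iff_dvd, hx] at h0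
      exact Nat.eq_zero_of_dvd_of_lt (Int.natCast_dvd_natCast.1 h0) (hf k))
  rw [hY] at hgood
  exact ⟨⟨nl, hnlG⟩, y, e, Data.nw_mem_N _, hgood, hval'⟩

set_option maxHeartbeats 1600000 in
/-- There is no element of order sixty-five. -/
theorem no_sixtyfive (x : ↥(chevE7.group (ZMod 2))) : orderOf x ≠ 65 := by
  intro hx
  classical
  haveI : Fact (Nat.Prime 2) := ⟨Nat.prime_two⟩
  haveI : Fact (Nat.Prime 5) := ⟨by norm_num⟩
  haveI : Fact (Nat.Prime 13) := ⟨by norm_num⟩
  let E := FiniteField.Extension (ZMod 2) 2 12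
  haveI : Fintype E := Fintype.ofFinite E
  have hE : Fintype.card E = 4096 := by
    rw [← Nat.card_eq_fintype_card, FiniteField.natCard_extension, Nat.card_zmod]
    norm_num
  haveI : CharP E 2 := charP_of_injective_algebraMap (algebraMap (ZMod 2) E).injective 2
  have ax := axioms (F := E) E7.good facts_chevE7
  let φ : chevE7.group (ZMod 2) →* (data E7.good E).grp :=
    ((entryMap chevE7 (algebraMap (ZMod 2) E)).comp (chevE7.group (ZMod 2)).subtype).codRestrict _
      fun z => by rw [data_grp]; exact group_map_le E7.good _ (Subgroup.mem_map_of_mem _ z.2)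
  have hφ : Function.Injective φ := fun a b e =>
    Subtype.ext (AltSection.entryMap_injective E7.good _ (congrArg Subtype.val e))
  set X := φ x with hX
  have hX65 : orderOf X = 65 := (orderOf_injective φ hφ x).trans hx
  -- the Frobenius
  let Fr : (data E7.good E).grp →* (data E7.good E).grp :=
    ((entryMap chevE7 (frobenius E 2)).comp (data E7.good E).grp.subtype).codRestrict _ fun z => by
      exact (data_grp E7.good (F := E)).ge
        (group_map_le E7.good _ (Subgroup.mem_map_of_mem _ ((data_grp E7.good (F := E)).le z.2)))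
  have hFrX : Fr X = X := by
    apply Subtype.ext
    apply Units.ext
    ext i j
    show frobenius E 2 (algebraMap (ZMod 2) E ((x : GL chevE7.Idx (ZMod 2)) i j)) = algebraMap (ZMod 2) E _
    rw [frobenius_def, ← map_pow, ZMod.pow_card]
    rfl
  set T := (data E7.good E).H.subgroupOf (data E7.good E).grp with hT
  have hFrT : ∀ t ∈ T, Fr t = t ^ 2 := fun t ht => Subtype.ext (by
    show entryMap chevE7 (frobenius E 2) t.1 = _
    exact (entryMap_frobenius_diagonal E7.good facts_chevE7 2 ht).trans (by simp))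
  obtain ⟨ω₁, h1⟩ : ∃ ω : Eˣ, IsPrimitiveRoot ω 13 := by
    obtain ⟨ω, hω⟩ := exists_prime_orderOf_dvd_card 13 (G := Eˣ) (by rw [Fintype.card_units, hE]; norm_num)
    exact ⟨ω, hω ▸ IsPrimitiveRoot.orderOf ω⟩
  obtain ⟨ω₂, h2⟩ : ∃ ω : Eˣ, IsPrimitiveRoot ω 5 := by
    obtain ⟨ω, hω⟩ := exists_prime_orderOf_dvd_card 5 (G := Eˣ) (by rw [Fintype.card_units, hE]; norm_num)
    exact ⟨ω, hω ▸ IsPrimitiveRoot.orderOf ω⟩
  -- the element of order thirteen into the torus
  obtain ⟨hc, hw⟩ := card_grp_levels E7.good facts_chevE7 (F := E) WeylTab.levelsE7 rfl WeylTab.levelsOK_E7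
  rw [weyl_order] at hw
  obtain ⟨hidx, -, -⟩ := Data.index_eq ax hc
  have hT13 : ¬ 13 ∣ T.index := by
    rw [hT, hidx]
    intro hd
    have h0 := (ZMod.natCast_eq_zero_iff _ 13).2 hd
    have hq : (Fintype.card E : ZMod 13) = 1 := by rw [hE]; exact cast_facts.2
    rw [Nat.cast_mul, Nat.cast_pow, hq, one_pow, one_mul, levelsPoly_mod 13 hq, weyl_order] at h0
    exact cast_facts.1 h0
  have h65 : X ^ 65 = 1 := hX65 ▸ pow_orderOf_eq_one X
  obtain ⟨c, hc13⟩ := exists_conj_le hT13 (P := Subgroup.zpowers (X ^ 5)) (IsPGroup.of_card_dvd_pow (n := 1) (by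
    rw [Nat.card_zpowers, pow_one]
    exact orderOf_dvd_of_pow_eq_one (by rw [← pow_mul, h65])))
  have hv0 := hc13 _ (Subgroup.mem_zpowers _)
  have hsquare : ∀ (d : ↥((data E7.good E).grp)) (a : ↥((data E7.good E).grp)), Fr a = a → d * a * d⁻¹ ∈ T →
      Fr d * d⁻¹ * (d * a * d⁻¹) * (Fr d * d⁻¹)⁻¹ = (d * a * d⁻¹) ^ 2 := by
    intro d a ha hd
    rw [← hFrT _ hd, map_mul, map_mul, map_inv, ha]
    group
  have hX5 : Fr (X ^ 5) = X ^ 5 := by rw [map_pow, hFrX]
  obtain ⟨m, y, e, hmN, hgood, hval⟩ := exists_good_conj (show ((c * X ^ 5 * c⁻¹ : ↥((data E7.good E).grp)) :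
      GL chevE7.Idx E) ∈ (data E7.good E).H from hv0)
    (by rw [conj_pow, ← pow_mul, h65, mul_one, mul_inv_cancel]) (fun h0 => by
      rw [conj_eq_one_iff] at h0
      have := orderOf_dvd_of_pow_eq_one h0
      rw [hX65] at this
      norm_num at this) (hsquare c _ hX5 hv0) h1
  set c₁ := m * c with hc₁
  set v := c₁ * X ^ 5 * c₁⁻¹ with hvdef
  have hv' : m * (c * X ^ 5 * c⁻¹) * m⁻¹ = v := by rw [hvdef, hc₁]; group
  rw [hv'] at hval
  have hvT : v ∈ T := by
    rw [← hv']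
    exact Data.N_conj_H ax hmN (show ((c * X ^ 5 * c⁻¹ : ↥((data E7.good E).grp)) : GL chevE7.Idx E) ∈ _ from hv0)
  -- the element of order five inside the centraliser
  set C := Subgroup.centralizer ({v} : Set ↥((data E7.good E).grp)) with hC
  have hzC : c₁ * X ^ 13 * c₁⁻¹ ∈ C := by
    rw [hC, Subgroup.mem_centralizer_singleton_iff, hvdef]
    calc c₁ * X ^ 13 * c₁⁻¹ * (c₁ * X ^ 5 * c₁⁻¹) = c₁ * (X ^ 13 * X ^ 5) * c₁⁻¹ := by group
      _ = c₁ * (X ^ 5 * X ^ 13) * c₁⁻¹ := by rw [← pow_add, ← pow_add, Nat.add_comm]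
      _ = _ := by group
  obtain ⟨d, hd⟩ := exists_conj_le (not_dvd_index hgood h1 h2 hvT hval) (P := Subgroup.zpowers (⟨_, hzC⟩ : C))
    (IsPGroup.of_card_dvd_pow (n := 1) (by
      rw [Nat.card_zpowers, pow_one]
      refine orderOf_dvd_of_pow_eq_one (Subtype.ext ?_)
      show (c₁ * X ^ 13 * c₁⁻¹) ^ 5 = 1
      rw [conj_pow, ← pow_mul, h65, mul_one, mul_inv_cancel]))
  have hzT0 := hd (⟨_, hzC⟩ : C) (Subgroup.mem_zpowers _)
  have hzT : d.1 * (c₁ * X ^ 13 * c₁⁻¹) * d.1⁻¹ ∈ T := by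
    rw [Subgroup.mem_subgroupOf, Subgroup.coe_mul, Subgroup.coe_mul, Subgroup.coe_inv] at hzT0
    exact hzT0
  set c₂ := d.1 * c₁ with hc₂
  have hv2 : c₂ * X ^ 5 * c₂⁻¹ = v := by
    have e : d.1 * v = v * d.1 := Subgroup.mem_centralizer_singleton_iff.1 d.2
    calc c₂ * X ^ 5 * c₂⁻¹ = d.1 * v * d.1⁻¹ := by rw [hc₂, hvdef]; group
      _ = v := by rw [e, mul_inv_cancel_right]
  have hz2 : c₂ * X ^ 13 * c₂⁻¹ = d.1 * (c₁ * X ^ 13 * c₁⁻¹) * d.1⁻¹ := by rw [hc₂]; group
  set z := c₂ * X ^ 13 * c₂⁻¹ with hz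
  have hzT' : z ∈ T := by rw [hz2]; exact hzT
  have hz1 : z ≠ 1 := by
    intro h0
    rw [hz, conj_eq_one_iff] at h0
    have := orderOf_dvd_of_pow_eq_one h0
    rw [hX65] at this
    norm_num at this
  have hz5 : z ^ 5 = 1 := by rw [hz, conj_pow, ← pow_mul, h65, mul_one, mul_inv_cancel]
  have hsqv : Fr c₂ * c₂⁻¹ * v * (Fr c₂ * c₂⁻¹)⁻¹ = v ^ 2 := by
    rw [← hv2]; exact hsquare c₂ _ hX5 (hv2.symm ▸ hvT)
  have hsqz : Fr c₂ * c₂⁻¹ * z * (Fr c₂ * c₂⁻¹)⁻¹ = z ^ 2 :=
    hsquare c₂ _ (by rw [map_pow, hFrX]) hzT'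
  obtain ⟨n, hn, hn'⟩ := Data.exists_monomial_conj ax (AltSection.coprime_U_H E7.good facts_chevE7 2)
    (Fr c₂ * c₂⁻¹).2
  have hconj : ∀ t : ↥((data E7.good E).grp), t ∈ T → Fr c₂ * c₂⁻¹ * t * (Fr c₂ * c₂⁻¹)⁻¹ = t ^ 2 →
      n * (t : GL chevE7.Idx E) * n⁻¹ = (t : GL chevE7.Idx E) ^ 2 := by
    intro t ht e
    have e' : ((Fr c₂ * c₂⁻¹ : ↥((data E7.good E).grp)) : GL chevE7.Idx E) * t *
        ((Fr c₂ * c₂⁻¹ : ↥((data E7.good E).grp)) : GL chevE7.Idx E)⁻¹ = (t : GL chevE7.Idx E) ^ 2 := by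
      simpa using congrArg Subtype.val e
    have htH : (t : GL chevE7.Idx E) ∈ (data E7.good E).H := ht
    rw [← hn' _ htH (by rw [e']; exact Subgroup.pow_mem _ htH 2), e']
  obtain ⟨l, -, hrel⟩ := monomial_relation facts_chevE7 (hG := E7.good) hn
  obtain ⟨f, hf, ⟨k, hk⟩, hfz⟩ := exists_values E7.good facts_chevE7 (fun r k => coef r k)
    (fun r hr j => (coef_linear j ⟨r, hr⟩).symm) h2
    (show (z : GL chevE7.Idx E) ∈ chevE7.diagonalSubgroup E from hzT')
    (by simpa using congrArg Subtype.val hz5) (fun h => hz1 (Subtype.ext h))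
  set g : Fin 7 → ℤ := fun i => (f i : ℤ) with hg
  have hzval : HasValues E7.good (z : GL chevE7.Idx E) (fun r => pw ω₂ (sys.val g r)) := by
    intro r u
    rw [hfz r.val r.2 u]
    congr 2
    rw [← zpow_natCast]
    show pw ω₂ _ = _
    rw [pw_eq_iff h2, expo, Int.toNat_of_nonneg (Int.emod_nonneg _ (by norm_num))]
    refine (Int.mod_modEq _ _).trans ?_
    exact congrArg (· % _) (Finset.sum_congr rfl fun i _ => mul_comm _ _)
  have r13 : ∀ r, 2 * sys.val y (sys.word l r) ≡ sys.val y r [ZMOD (13 : ℕ)] := fun r => by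
    have := hrel _ hvT 2 _ hval (hconj v hvT hsqv) r
    rw [pw_pow, pw_eq_iff h1] at this
    exact this
  have r5 : ∀ r, 2 * sys.val g (sys.word l r) ≡ sys.val g r [ZMOD (5 : ℕ)] := fun r => by
    have := hrel _ hzT' 2 _ hzval (hconj z hzT' hsqz) r
    rw [pw_pow, pw_eq_iff h2] at this
    exact this
  refine hk (Nat.eq_zero_of_dvd_of_lt ?_ (hf k))
  exact Int.natCast_dvd_natCast.1 (hgood.kills l r13 g r5 k)

end Cfsg.Agent.E7Two
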